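import Cfsg.Agent.Mrg.Omega.OM.Lev.Low.TorusK.PBCj
import Cfsg.Agent.Mrg.Omega.OM.Lev.Low.TorusK.Pair
import Cfsg.Agent.Mrg.Omega.OM.Lev.Low.BlOf
import Cfsg.Agent.Mrg.Omega.OM.Lev.Low.FrFour
import Cfsg.Agent.Mrg.Omega.NO3S.Level.Claim
import Cfsg.Agent.PLocal.Uniserial
import Cfsg.Agent.Mrg.Omega.OM.Lev.Low.Core
import Cfsg.Agent.Mrg.Omega.OM.Lev.Low.SetS
import Cfsg.Agent.Mrg.Omega.TC.UniLev

-- merged: Cfsg.Agent.Mrg.Omega.OM.Lev.Low.TorusK.Frame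
section

section


/-!
# TORUS, `k ≥ 4` (helper607 #23961): the frame

`W i = V_i` (natural `SL₂(2)`-modules, `V = ∏ W i`), `Z i = ⟨z_i⟩`, `ZJ = Ω₁Z(B)`; `B₀ = C_S(X)`, `X = Ω₁Z(B₀)`.

* `Fml S B₀ X M₀ Y₀` : the family at the stage: `Claim.Fm` on every elementary abelian `U ≤ B₀ ∩ Y₀` (stage `-1`:
  `M₀ = Y₀ = G`; stage `j ≥ 0`: `M₀ = N(lev j)`, `Y₀ = Ω₁Z(lev j)`);
* `TK` : the frame of `S`;
* `BK l K N N₁ N₀` : a torus block `K` over `B₀` with line `W l`;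
* `TK.no_shift` : `z ↦ z c` is impossible for `1 ≠ c ∈ ZJ`;
* `BK.cj` : the conjugates with `s ∈ S`.
-/

set_option autoImplicit false
set_option linter.unusedSectionVars false

namespace Cfsg.Agent.Omega.OM.Lev.Low.TorusK

open Subgroup Cfsg Cfsg.Agent.ZN Cfsg.Agent.ZN.ChoiceBase
open Cfsg.Agent.Omega.SQ1.Bau (mem_sup_comm card_sup_comm elem_comm elem_sq)
open Cfsg.Agent.Omega.NO3S.Level.Claim (Fm Bl cB mem_cB cB_le)
open Cfsg.Agent.Omega.OM.Lev.Uni (FrL)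
open Cfsg.Agent.Omega.OM.Lev.Low.TorusK.PBC

universe u

variable {G : Type u} [Group G]

/-- The family at the stage. -/
def Fml (S B0 X M0 Y0 : Subgroup G) : Prop :=
  ∀ U H : Subgroup G, IsElementaryAbelian 2 U → U ≤ B0 → U ≤ Y0 → H ≤ normalizer (U : Set G) → H ≤ M0 →
    ∃ AA : Set (Subgroup G), Fm S U H B0 (U ⊓ X) AA ∧ ∀ A ∈ AA, ∀ g ∈ S, g ∈ normalizer (U : Set G) → cj g A ∈ AA

/-- The frame of `S`. -/
structure TK {ι : Type} (S B Q V Xn ZJ B0 X M0 Y0 : Subgroup G) (L W Z C A : ι → Subgroup G) (z : G) : Prop where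
  fr : FrL B Q V Xn ZJ L W Z C A 2
  fml : Fml S B0 X M0 Y0
  two : IsPGroup 2 S
  BS : B ≤ S
  B0B : B0 ≤ B
  SB : S ≤ normalizer (B : Set G)
  SB0 : S ≤ normalizer (B0 : Set G)
  SX : S ≤ normalizer (X : Set G)
  zB : zc B0 = X
  VX : V ≤ X
  XY : X ≤ Y0
  mX : ∀ s ∈ S, (∀ x ∈ X, s * x = x * s) → s ∈ B0
  /-- `C_X(Q) = V` -/
  cQ : ∀ x ∈ X, (∀ y ∈ Q, y * x = x * y) → x ∈ V
  SM : S ≤ M0
  MY : M0 ≤ normalizer (Y0 : Set G)
  perm : ∀ s ∈ S, ∀ i, ∃ j, cj s (W i) = W j ∧ cj s (Z i) = Z j ∧ cj s (C i) = C j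
  tr : ∀ i j, ∃ s ∈ S, cj s (W i) = W j
  /-- (W): fusion in `ZJ` preserves full support -/
  wt : ∀ g z, z ∈ ZJ → g * z * g⁻¹ ∈ ZJ → (∀ i, z ∉ C i) → ∀ i, g * z * g⁻¹ ∉ C i
  /-- `B` is a Sylow 2-subgroup of `C_G(z_p : p ≠ l)` -/
  syl : ∀ l, ∀ T : Subgroup G, IsPGroup 2 T → B ≤ T → (∀ p, p ≠ l → T ≤ centralizer (Z p : Set G)) → T ≤ B
  /-- `Ω₁Z(O₂(C_G(z_p : p ≠ l)))` -/
  loc1 : ∀ l, ∃ E : Subgroup G, IsElementaryAbelian 2 E ∧ E ≤ B ∧ ZJ ≤ E ∧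
    ∀ g, (∀ p, p ≠ l → ∀ x ∈ Z p, g * x = x * g) → g ∈ normalizer (E : Set G)
  /-- `Ω₁Z(O₂(C_G(z_p : p ≠ l, m)))` -/
  loc2 : ∀ l m, l ≠ m → ∃ E : Subgroup G, IsElementaryAbelian 2 E ∧ (∀ e ∈ E, (∀ x ∈ X, e * x = x * e) → e ∈ B0) ∧
    (∀ x ∈ Z l, ∀ y ∈ Z m, x ≠ 1 → y ≠ 1 → x * y ∈ E) ∧
    ∀ g, (∀ p, p ≠ l → p ≠ m → ∀ x ∈ Z p, g * x = x * g) → g ∈ normalizer (E : Set G)
  /-- `z` generates `Ω₁Z(S)` -/
  zJ : z ∈ ZJ
  zS : ∀ s ∈ S, s * z = z * s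
  zC : ∀ i, z ∉ C i
  /-- a local group over `S` is generated by elements which normalise `X` or centralise `z` -/
  fact : ∀ H : Subgroup G, S ≤ H → (∃ U : Subgroup G, U ≠ ⊥ ∧ IsPGroup 2 U ∧ H ≤ normalizer (U : Set G)) →
    H ≤ (H ⊓ normalizer (X : Set G)) ⊔ (H ⊓ centralizer ({z} : Set G))

/-- A torus block `K` over `B₀` with line `W l`, module `[N, K]`. -/
structure BK {ι : Type} (B B0 X M0 Y0 : Subgroup G) (W : ι → Subgroup G) (l : ι) (K N N1 N0 : Subgroup G) : Prop where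
  pb : PB B0 K N N1 N0 4
  NY : N ≤ Y0
  KM : K ≤ M0
  WN : W l ≤ N1
  WN0 : W l ⊓ N0 = ⊥
  /-- `K` centralises the other `W p` -/
  cW : ∀ p, p ≠ l → ∀ w ∈ W p, ∀ k ∈ K, k * w = w * k
  BX : B ≤ normalizer ((X ⊓ centralizer (K : Set G) : Subgroup G) : Set G)
  /-- a torus element -/
  tor : ∃ h ∈ K, h ∈ normalizer (B0 : Set G) ∧ (∀ w ∈ W l, h * w * h⁻¹ ∈ W l) ∧ ∀ w ∈ W l, h * w * h⁻¹ = w → w = 1

/-- A natural `SL₂(4)`-module of order 16 (helper543's literal). -/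
structure N4 (B0 K V V1 : Subgroup G) : Prop where
  el : IsElementaryAbelian 2 V
  card : Nat.card V = 16
  V1V : V1 ≤ V
  card1 : Nat.card V1 = 4
  BK : B0 ≤ K
  KV : K ≤ normalizer (V : Set G)
  c1 : ∀ b ∈ B0, ∀ v ∈ V1, b * v = v * b
  quad : ∀ b ∈ B0, ∀ v ∈ V, b * v * b⁻¹ * v⁻¹ ∈ V1
  cent : ∀ b ∈ B0, (∃ v ∈ V, b * v ≠ v * b) → ∀ v ∈ V, b * v = v * b → v ∈ V1
  cardB : Nat.card B0 = Nat.card ↥(B0 ⊓ centralizer (V : Set G)) * 4
  cor : K ≤ normalizer ((B0 ⊓ centralizer (V : Set G) : Subgroup G) : Set G)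
  opp : ∀ l ∈ K, SQ1.Bau.Mv V1 l → ∀ v ∈ V1, l * v * l⁻¹ ∈ V1 → v = 1
  mv : ∃ l ∈ K, SQ1.Bau.Mv V1 l
  gen : ∀ l ∈ K, SQ1.Bau.Mv V1 l → ∀ X : Subgroup G, B0 ≤ X → (∀ b ∈ B0, l * b * l⁻¹ ∈ X) → K ≤ X
  tor : ∀ z ∈ V1, z ≠ 1 → ∀ z' ∈ V1, z' ≠ 1 → ∃ h ∈ K, h ∈ normalizer (B0 : Set G) ∧ h * z * h⁻¹ = z'

namespace TK

variable {ι : Type} {S B Q V Xn ZJ B0 X M0 Y0 : Subgroup G} {L W Z C A : ι → Subgroup G} {z : G}
  (h : TK S B Q V Xn ZJ B0 X M0 Y0 L W Z C A z)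

include h

theorem elX [Finite G] : IsElementaryAbelian 2 X := by
  rw [← h.zB]
  exact NO3S.OneLine.zc_elem B0

theorem Xc [Finite G] {x y : G} (hx : x ∈ X) (hy : y ∈ X) : x * y = y * x := elem_comm h.elX x hx y hy

theorem XB0 : X ≤ B0 := by
  rw [← h.zB]
  exact fun x hx => (ChoiceBase.mem_zc.1 hx).1

theorem cX {b x : G} (hb : b ∈ B0) (hx : x ∈ X) : b * x = x * b := by
  rw [← h.zB] at hx
  exact (ChoiceBase.mem_zc.1 hx).2.2 b hb

theorem WX (i : ι) : W i ≤ X := (h.fr.WV i).trans h.VX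

theorem ZX (i : ι) : Z i ≤ X := (h.fr.ZV i).trans h.VX

theorem ZJX : ZJ ≤ X := h.fr.ZJV.trans h.VX

theorem ZW (i : ι) : Z i ≤ W i := (h.fr.blk i).ZV

theorem cardW (i : ι) : Nat.card (W i) = 4 := by
  rw [(h.fr.blk i).card, h.fr.cardZ i]

theorem ZW' (i : ι) {w : G} (hw : w ∈ W i) (hJ : w ∈ ZJ) : w ∈ Z i :=
  (h.fr.blk i).mem_Z_iff.2 ⟨hw, fun b hb => ((h.fr.mem_ZJ w).1 hJ).2 b hb⟩

/-- `C_X(B) = ZJ` -/
theorem mem_ZJ_of {x : G} (hx : x ∈ X) (hc : ∀ b ∈ B, b * x = x * b) : x ∈ ZJ :=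
  (h.fr.mem_ZJ x).2 ⟨h.cQ x hx fun y hy => hc y (h.fr.QB hy), hc⟩

theorem cZJ {b x : G} (hb : b ∈ B) (hx : x ∈ ZJ) : b * x = x * b := ((h.fr.mem_ZJ x).1 hx).2 b hb

/-- the element of order 2 in `Z i` -/
theorem Z_two (i : ι) {x y : G} (hx : x ∈ Z i) (hy : y ∈ Z i) (hx1 : x ≠ 1) (hy1 : y ≠ 1) : x = y := by
  classical
  by_contra hne
  have h2 := h.fr.cardZ i
  have hfin : Finite (Z i) := Nat.finite_of_card_ne_zero (by rw [h2]; norm_num)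
  have h3 : ({⟨1, one_mem _⟩, ⟨x, hx⟩, ⟨y, hy⟩} : Finset (Z i)).card = 3 := by
    rw [Finset.card_eq_three]
    exact ⟨_, _, _, fun e => hx1 (congrArg Subtype.val e).symm, fun e => hy1 (congrArg Subtype.val e).symm,
      fun e => hne (congrArg Subtype.val e), rfl⟩
  have : Fintype (Z i) := Fintype.ofFinite _
  have h4 := Finset.card_le_univ ({⟨1, one_mem _⟩, ⟨x, hx⟩, ⟨y, hy⟩} : Finset (Z i))
  rw [h3, ← Nat.card_eq_fintype_card, h2] at h4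
  omega

/-- **`z ↦ z c` is impossible for `1 ≠ c ∈ ZJ`.** -/
theorem no_shift {g z c : G} (hz : z ∈ ZJ) (hf : ∀ i, z ∉ C i) (hc : c ∈ ZJ) (he : g * z * g⁻¹ = z * c) : c = 1 := by
  by_contra hc1
  have h1 : ¬ ∀ i, c ∈ C i := fun hall => hc1 (h.fr.C0 c (h.fr.ZJV hc) hall)
  push Not at h1
  obtain ⟨p, hp⟩ := h1
  obtain ⟨w, hw, d, hd, -, ez⟩ := h.fr.split_ZJ p hz
  obtain ⟨w', hw', d', hd', -, ec⟩ := h.fr.split_ZJ p hc
  have hw1 : w ≠ 1 := fun e => hf p (by rw [ez, e, one_mul]; exact hd)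
  have hw1' : w' ≠ 1 := fun e => hp (by rw [ec, e, one_mul]; exact hd')
  have e1 : w = w' := h.Z_two p hw hw' hw1 hw1'
  have hgz : g * z * g⁻¹ ∈ ZJ := by rw [he]; exact mul_mem hz hc
  refine h.wt g z hz hgz hf p ?_
  have hww : w * w = 1 := by
    have := elem_sq h.fr.el w (h.fr.ZV p hw)
    rwa [pow_two] at this
  have e2 : g * z * g⁻¹ = d * d' := by
    rw [he, ez, ec, ← e1]
    calc w * d * (w * d') = w * (d * w) * d' := by group
      _ = w * (w * d) * d' := by rw [h.fr.Vc (h.fr.CV p hd) (h.fr.ZV p hw)]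
      _ = w * w * (d * d') := by group
      _ = d * d' := by rw [hww, one_mul]
  rw [e2]
  exact mul_mem hd hd'

/-- an element of `ZJ ∩ C l` is a product of elements of the `Z p`, `p ≠ l` -/
theorem mem_of_C [Finite ι] {l : ι} {H : Subgroup G} (hH : ∀ p, p ≠ l → Z p ≤ H) {c : G} (hc : c ∈ ZJ) (hl : c ∈ C l) :
    c ∈ H := by
  have h1 : ZJ ≤ H ⊔ Z l := zj_le h.fr fun i => by
    by_cases hi : i = l
    · rw [hi]; exact le_sup_right
    · exact (hH i hi).trans le_sup_left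
  -- use `H' = closure of the Z p`
  have h2 : ZJ ≤ (⨆ (p) (_ : p ≠ l), Z p) ⊔ Z l := zj_le h.fr fun i => by
    by_cases hi : i = l
    · rw [hi]; exact le_sup_right
    · exact (le_iSup₂_of_le (f := fun p (_ : p ≠ l) => Z p) i hi le_rfl).trans le_sup_left
  have h3 : (⨆ (p) (_ : p ≠ l), Z p) ≤ C l :=
    iSup₂_le fun p hp => (h.ZW p).trans (h.fr.WjC l p (Ne.symm hp))
  obtain ⟨a, ha, b, hb, e⟩ := mem_sup_comm (fun a ha b hb =>
    h.fr.Vc ((h3.trans (h.fr.CV l)) ha) (h.fr.ZV l hb)) (h2 hc)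
  have h4 : b = 1 := by
    have h5 : b ∈ W l ⊓ C l := by
      refine mem_inf.2 ⟨h.ZW l hb, ?_⟩
      have : b = a⁻¹ * c := by rw [e]; group
      rw [this]
      exact mul_mem (inv_mem (h3 ha)) hl
    rw [h.fr.dir l, mem_bot] at h5
    exact h5
  rw [e, h4, mul_one]
  exact (iSup₂_le fun p hp => hH p hp) ha

/-- `t ∈ B` which centralises `C p` and moves `W p` -/
theorem exists_t (p : ι) : ∃ t ∈ B, (∀ c ∈ C p, t * c = c * t) ∧ ∃ w ∈ W p, t * w ≠ w * t := by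
  have h1 := h.fr.Ane p
  push Not at h1
  obtain ⟨a, ha, w, hw, hne⟩ := h1
  exact ⟨a, h.fr.AB p ha, fun c hc => h.fr.AC p a ha c hc, w, hw, hne⟩

theorem SMY : S ≤ normalizer (Y0 : Set G) := h.SM.trans h.MY

end TK

namespace BK

variable {ι : Type} {S B Q V Xn ZJ B0 X M0 Y0 : Subgroup G} {L W Z C A : ι → Subgroup G} {z : G}
  {l : ι} {K N N1 N0 : Subgroup G}

theorem N1_eq [Finite G] (k : BK B B0 X M0 Y0 W l K N N1 N0) (hc : Nat.card (W l) = 4) : N1 = W l ⊔ N0 := by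
  have hcm : ∀ a ∈ W l, ∀ b ∈ N0, a * b = b * a := fun a ha b hb =>
    k.pb.comm (k.pb.N1N (k.WN ha)) (k.pb.N1N (k.pb.N01 hb))
  have h1 := card_sup_comm hcm
  rw [k.WN0, hc, Subgroup.card_bot, mul_one] at h1
  have h2 := k.pb.card1
  have hle : W l ⊔ N0 ≤ N1 := sup_le k.WN k.pb.N01
  exact (Subgroup.eq_of_le_of_card_ge hle (by rw [h2, h1, mul_comm])).symm

/-- **conjugates** -/
theorem cj (h : TK S B Q V Xn ZJ B0 X M0 Y0 L W Z C A z) [Finite G] (k : BK B B0 X M0 Y0 W l K N N1 N0) {s : G}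
    (hs : s ∈ S) {m : ι} (hm : ChoiceBase.cj s (W l) = W m) :
    BK B B0 X M0 Y0 W m (ChoiceBase.cj s K) (ChoiceBase.cj s N) (ChoiceBase.cj s N1) (ChoiceBase.cj s N0) where
  pb := by
    have h1 := pb_cj k.pb s
    rwa [cj_eq_of_mem_normalizer (h.SB0 hs)] at h1
  NY := by
    have h1 := cj_mono s k.NY
    rwa [cj_eq_of_mem_normalizer (h.SMY hs)] at h1
  KM := by
    have h1 := cj_mono s k.KM
    rwa [cj_eq_of_mem_normalizer (le_normalizer (h.SM hs))] at h1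
  WN := by rw [← hm]; exact cj_mono s k.WN
  WN0 := by
    rw [← hm, ← cj_inf, k.WN0]
    exact Subgroup.map_bot _
  cW := by
    intro p hp w hw x hx0
    obtain ⟨x, hx, rfl⟩ := ex_cj hx0
    obtain ⟨j, hj, -, -⟩ := h.perm s⁻¹ (inv_mem hs) p
    have hjl : j ≠ l := fun e => hp (by
      have h1 : ChoiceBase.cj s (W j) = W p := by rw [← hj, cj_cj, mul_inv_cancel, cj_one]
      rw [e, hm] at h1
      by_contra hne
      have h2 := h.fr.WjC m p (Ne.symm hne)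
      rw [← h1] at h2
      have h3 : W m ≤ W m ⊓ C m := le_inf le_rfl h2
      rw [h.fr.dir m] at h3
      have h4 := h.cardW m
      rw [eq_bot_iff.2 h3, Subgroup.card_bot] at h4
      omega)
    have hw' : s⁻¹ * w * s ∈ W j := by
      rw [← hj, mem_cj']
      simpa [mul_assoc] using hw
    have h1 := k.cW j hjl _ hw' x hx
    have h2 := (PBC.comm_cj (g := s)).2 h1
    have e : s * (s⁻¹ * w * s) * s⁻¹ = w := by group
    rwa [e] at h2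
  BX := by
    have h1 : ChoiceBase.cj s (X ⊓ centralizer (K : Set G)) = X ⊓ centralizer (ChoiceBase.cj s K : Set G) := by
      rw [cj_inf, cj_centralizer, cj_eq_of_mem_normalizer (h.SX hs)]
    rw [← h1]
    intro b hb
    rw [mem_normalizer_iff_cj]
    have hb' : s⁻¹ * b * s ∈ B := by
      have := (mem_normalizer_iff.1 (inv_mem (h.SB hs)) b).1 hb
      simpa using this
    have h2 := cj_eq_of_mem_normalizer (k.BX hb')
    rw [cj_cj, show b * s = s * (s⁻¹ * b * s) by group, ← cj_cj, h2]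
  tor := by
    obtain ⟨x, hx, hxB, hxW, hxf⟩ := k.tor
    refine ⟨_, cj_mem hx, ?_, ?_, ?_⟩
    · have h1 : s ∈ normalizer (B0 : Set G) := h.SB0 hs
      exact mul_mem (mul_mem h1 hxB) (inv_mem h1)
    · intro w hw0
      rw [← hm] at hw0 ⊢
      obtain ⟨w, hw, rfl⟩ := ex_cj hw0
      have e : s * x * s⁻¹ * (s * w * s⁻¹) * (s * x * s⁻¹)⁻¹ = s * (x * w * x⁻¹) * s⁻¹ := by group
      rw [e]
      exact cj_mem (hxW w hw)
    · intro w hw0 he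
      rw [← hm] at hw0
      obtain ⟨w, hw, rfl⟩ := ex_cj hw0
      have e : s * x * s⁻¹ * (s * w * s⁻¹) * (s * x * s⁻¹)⁻¹ = s * (x * w * x⁻¹) * s⁻¹ := by group
      rw [e] at he
      have h1 := hxf w hw (mul_left_cancel (mul_right_cancel he))
      rw [h1]; group

end BK

end Cfsg.Agent.Omega.OM.Lev.Low.TorusK

end

section


/-!
# TORUS, `k ≥ 4`: (Sig) for the literal `N4` of `Frame.lean` and for a block `BK`

`sig` : `S1` permutes the lines `V1^k`, `k ∈ K`.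
-/

set_option autoImplicit false

namespace Cfsg.Agent.Omega.OM.Lev.Low.TorusK.SigN4

open Subgroup Cfsg Cfsg.Agent.ZN Cfsg.Agent.ZN.ChoiceBase

universe u

variable {G : Type u} [Group G]

theorem toSig {B0 K V V1 : Subgroup G} (h : TorusK.N4 B0 K V V1) : Sig.N4 B0 K V V1 where
  el := h.el
  card := h.card
  V1V := h.V1V
  card1 := h.card1
  BK := h.BK
  KV := h.KV
  c1 := h.c1
  quad := h.quad
  cent := h.cent
  cardB := h.cardB
  opp := h.opp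
  mv := h.mv

/-- **(Sig)** for helper607's `N4`; `B` permutes the lines. -/
theorem sig' [Finite G] {B0 K V V1 B S1 : Subgroup G} (h : TorusK.N4 B0 K V V1) (hS2 : IsPGroup 2 S1) (hBS : B ≤ S1)
    (hB0 : B0 ≤ B) (hSB : S1 ≤ normalizer (B : Set G)) (hSB0 : S1 ≤ normalizer (B0 : Set G))
    (hSV : S1 ≤ normalizer (V : Set G)) (hSV1 : S1 ≤ normalizer (V1 : Set G))
    (hPL : ∀ b ∈ B, ∀ k ∈ K, ∃ k' ∈ K, cj b (cj k V1) = cj k' V1) {z : G}
    (hz : z ∈ V1) (hz1 : z ≠ 1) (hSz : ∀ s ∈ S1, s * z = z * s) {t : G} (ht : t ∈ B) (hmv : ∃ v ∈ V1, t * v ≠ v * t)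
    (hsyl : ∀ s ∈ S1, ∀ T : Subgroup G, IsPGroup 2 T → B ≤ T → T ≤ K ⊔ cj s K ⊔ B → T ≤ B) :
    ∀ s ∈ S1, ∀ k ∈ K, ∃ k' ∈ K, cj s (cj k V1) = cj k' V1 :=
  (toSig h).sig hS2 hBS hB0 hSB hSB0 hSV hSV1 hPL hz hz1 hSz ht hmv hsyl

/-- **(Sig)** for helper607's `N4`; `B ≤ N(K)`. -/
theorem sig [Finite G] {B0 K V V1 B S1 : Subgroup G} (h : TorusK.N4 B0 K V V1) (hS2 : IsPGroup 2 S1) (hBS : B ≤ S1)
    (hB0 : B0 ≤ B) (hSB : S1 ≤ normalizer (B : Set G)) (hSB0 : S1 ≤ normalizer (B0 : Set G))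
    (hSV : S1 ≤ normalizer (V : Set G)) (hSV1 : S1 ≤ normalizer (V1 : Set G)) (hBK : B ≤ normalizer (K : Set G)) {z : G}
    (hz : z ∈ V1) (hz1 : z ≠ 1) (hSz : ∀ s ∈ S1, s * z = z * s) {t : G} (ht : t ∈ B) (hmv : ∃ v ∈ V1, t * v ≠ v * t)
    (hsyl : ∀ s ∈ S1, ∀ T : Subgroup G, IsPGroup 2 T → B ≤ T → T ≤ K ⊔ cj s K ⊔ B → T ≤ B) :
    ∀ s ∈ S1, ∀ k ∈ K, ∃ k' ∈ K, cj s (cj k V1) = cj k' V1 :=
  sig' h hS2 hBS hB0 hSB hSB0 hSV hSV1 (fun b hb => Sig.PL.of_norm (hBK hb) (hSV1 (hBS hb))) hz hz1 hSz ht hmv hsyl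

end Cfsg.Agent.Omega.OM.Lev.Low.TorusK.SigN4

end

end

-- merged: Cfsg.Agent.Mrg.Omega.OM.Lev.Low.TorusK.Uni
section

section


/-!
# TORUS, `k ≥ 4`: the common elementary abelian groups, (UNI)

* `BK.act` : `[X, K] ≤ [N, K]`; `BK.le_of` : a `K`-invariant `D ≤ N` containing an element `≠ 1` of `W l` contains `[N, K]`;
* `TK.exists_U1`, `TK.exists_U2` : an elementary abelian `U ≤ B₀ ∩ Y₀` which contains `[N, K]` and is normalised by `K`, for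
  all blocks `K` over one line (two lines);
* `BK.bl` : `Claim.Bl` on `U`;
* `uni'` : **(UNI)**; `ch_eq` : `[[N, K], B₀]` is the same for all blocks over one line.
-/

set_option autoImplicit false
set_option linter.unusedSectionVars false

namespace Cfsg.Agent.Omega.OM.Lev.Low.TorusK

open Subgroup Cfsg Cfsg.Agent.ZN Cfsg.Agent.ZN.ChoiceBase
open Cfsg.Agent.Omega.SQ1.Bau (mem_sup_comm card_sup_comm elem_comm elem_sq)
open Cfsg.Agent.Omega.NO3S.Level.Claim (Fm Bl cB mem_cB cB_le)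
open Cfsg.Agent.Omega.OM.Lev.Uni (FrL)
open Cfsg.Agent.Omega.OM.Lev.Low.TorusK.PBC
open scoped commutatorElement

universe u

variable {G : Type u} [Group G] {ι : Type} {S B Q V Xn ZJ B0 X M0 Y0 : Subgroup G} {L W Z C A : ι → Subgroup G} {z : G}
  {l : ι} {K N N1 N0 : Subgroup G}

namespace BK

/-- `[X, K] ≤ [N, K]` -/
theorem act [Finite G] (h : TK S B Q V Xn ZJ B0 X M0 Y0 L W Z C A z) (k : BK B B0 X M0 Y0 W l K N N1 N0) {g x : G}
    (hg : g ∈ K) (hx : x ∈ X) : g * x * g⁻¹ * x⁻¹ ∈ (⁅N, K⁆ : Subgroup G) := by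
  rw [← h.zB] at hx
  obtain ⟨c, hc, hcl, n, hn, rfl⟩ := k.pb.Z_split hx
  have h1 := k.pb.comm_mem hg (k.pb.N1N hn)
  have h2 : c * (g * n * g⁻¹ * n⁻¹) = (g * n * g⁻¹ * n⁻¹) * c :=
    ((ChoiceBase.mem_zc.1 hc).2.2 _ (k.pb.NB (k.pb.VN h1))).symm
  have e : g * (c * n) * g⁻¹ * (c * n)⁻¹ = g * n * g⁻¹ * n⁻¹ := by
    calc g * (c * n) * g⁻¹ * (c * n)⁻¹ = (g * c) * n * g⁻¹ * (n⁻¹ * c⁻¹) := by group
      _ = (c * g) * n * g⁻¹ * (n⁻¹ * c⁻¹) := by rw [hcl g hg]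
      _ = c * (g * n * g⁻¹ * n⁻¹) * c⁻¹ := by group
      _ = (g * n * g⁻¹ * n⁻¹) * c * c⁻¹ := by rw [h2]
      _ = _ := by group
  rw [e]
  exact h1

/-- a `K`-invariant `D ≤ N` containing an element `≠ 1` of `W l` contains `[N, K]` -/
theorem le_of [Finite G] (k : BK B B0 X M0 Y0 W l K N N1 N0) {D : Subgroup G} (hD : K ≤ normalizer (D : Set G)) {w : G}
    (hw : w ∈ W l) (hw1 : w ≠ 1) (hwD : w ∈ D) : ⁅N, K⁆ ≤ D := by
  have hU : K ≤ normalizer ((D ⊓ N : Subgroup G) : Set G) := fun g hg => by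
    rw [mem_normalizer_iff_cj, cj_inf, cj_eq_of_mem_normalizer (hD hg), cj_eq_of_mem_normalizer (k.pb.LN hg)]
  have hne : ¬ D ⊓ N ≤ N0 := fun hle => hw1 (by
    have h1 : w ∈ W l ⊓ N0 := ⟨hw, hle ⟨hwD, k.pb.N1N (k.WN hw)⟩⟩
    rwa [k.WN0, mem_bot] at h1)
  rw [Subgroup.commutator_le]
  intro v hv g hg
  obtain ⟨u, hu, n, hn, rfl⟩ := k.pb.cover inf_le_right hU hne hv
  have h1 : ⁅u * n, g⁆ = u * (g * u⁻¹ * g⁻¹) := by
    rw [commutatorElement_def]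
    have h2 := k.pb.N0c g hg n⁻¹ (inv_mem hn)
    calc u * n * g * (u * n)⁻¹ * g⁻¹ = u * n * (g * n⁻¹) * u⁻¹ * g⁻¹ := by group
      _ = u * n * (n⁻¹ * g) * u⁻¹ * g⁻¹ := by rw [h2]
      _ = _ := by group
  rw [h1]
  exact mul_mem hu.1 ((mem_normalizer_iff.1 (hD hg) _).1 (inv_mem hu.1))

/-- elements of `W l` centralised by `K` -/
theorem W_cen (k : BK B B0 X M0 Y0 W l K N N1 N0) {w : G} (hw : w ∈ W l) (hc : ∀ g ∈ K, g * w = w * g) : w = 1 := by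
  obtain ⟨t, ht, -, -, hf⟩ := k.tor
  exact hf w hw (by rw [hc t ht]; group)

/-- if `e = w c` with `1 ≠ w ∈ W l`, `c` centralised by `K`, is in the `K`-invariant group `D`, then `[N, K] ≤ D` -/
theorem le_of' [Finite G] (k : BK B B0 X M0 Y0 W l K N N1 N0) {D : Subgroup G} (hD : K ≤ normalizer (D : Set G))
    {w c : G} (hw : w ∈ W l) (hw1 : w ≠ 1) (hc : ∀ g ∈ K, g * c = c * g) (hwD : w * c ∈ D) : ⁅N, K⁆ ≤ D := by
  obtain ⟨t, ht, -, htW, hf⟩ := k.tor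
  refine k.le_of hD (w := t * w * t⁻¹ * w⁻¹) (mul_mem (htW w hw) (inv_mem hw)) (fun e => hw1 (hf w hw ?_)) ?_
  · exact mul_inv_eq_one.1 e
  · have h1 := mul_mem ((mem_normalizer_iff.1 (hD ht) _).1 hwD) (inv_mem hwD)
    have e : t * (w * c) * t⁻¹ * (w * c)⁻¹ = t * w * t⁻¹ * w⁻¹ := by
      have h2 := hc t ht
      calc t * (w * c) * t⁻¹ * (w * c)⁻¹ = t * w * (c * t⁻¹) * c⁻¹ * w⁻¹ := by group
        _ = t * w * (t⁻¹ * (t * c) * t⁻¹) * c⁻¹ * w⁻¹ := by group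
        _ = t * w * (t⁻¹ * (c * t) * t⁻¹) * c⁻¹ * w⁻¹ := by rw [h2]
        _ = _ := by group
    rw [e] at h1
    exact h1

theorem VB0 [Finite G] (k : BK B B0 X M0 Y0 W l K N N1 N0) : ⁅N, K⁆ ≤ B0 := k.pb.VN.trans k.pb.NB

theorem VY0 [Finite G] (k : BK B B0 X M0 Y0 W l K N N1 N0) : ⁅N, K⁆ ≤ Y0 := k.pb.VN.trans k.NY

end BK

/-- the group `E ∩ C(X) ∩ Y₀` -/
theorem exists_U_aux [Finite G] (h : TK S B Q V Xn ZJ B0 X M0 Y0 L W Z C A z) {E : Subgroup G}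
    (hE : IsElementaryAbelian 2 E) (hEB : ∀ e ∈ E, (∀ x ∈ X, e * x = x * e) → e ∈ B0) :
    ∃ U : Subgroup G, IsElementaryAbelian 2 U ∧ U ≤ B0 ∧ U ≤ Y0 ∧ U ≤ E ∧ ∀ l K N N1 N0, BK B B0 X M0 Y0 W l K N N1 N0 →
      K ≤ normalizer (E : Set G) → (∃ w ∈ W l, w ≠ 1 ∧ ∃ c, (∀ g ∈ K, g * c = c * g) ∧ w * c ∈ E) →
        ⁅N, K⁆ ≤ U ∧ K ≤ normalizer (U : Set G) := by
  refine ⟨E ⊓ centralizer (X : Set G) ⊓ Y0, Cfsg.Agent.PLocal.ThompsonJ.isElementaryAbelian_mono hE (inf_le_left.trans inf_le_left), ?_, inf_le_right,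
    inf_le_left.trans inf_le_left, ?_⟩
  · rintro e ⟨⟨h1, h2⟩, -⟩
    exact hEB e h1 fun x hx => (mem_centralizer_iff.1 h2 x hx).symm
  · rintro l K N N1 N0 k hKE ⟨w, hw, hw1, c, hc, hwc⟩
    have hVE : ⁅N, K⁆ ≤ E := k.le_of' hKE hw hw1 hc hwc
    refine ⟨le_inf (le_inf hVE fun v hv => mem_centralizer_iff.2 fun x hx => ?_) k.VY0, ?_⟩
    · exact (h.cX (k.VB0 hv) hx).symm
    · intro g hg
      have key : ∀ g ∈ K, cj g (E ⊓ centralizer (X : Set G) ⊓ Y0) ≤ E ⊓ centralizer (X : Set G) ⊓ Y0 := by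
        intro g hg y hy0
        obtain ⟨y, ⟨⟨hyE, hyX⟩, hyY⟩, rfl⟩ := ex_cj hy0
        refine ⟨⟨(mem_normalizer_iff.1 (hKE hg) _).1 hyE, mem_centralizer_iff.2 fun x hx => ?_⟩,
          (mem_normalizer_iff.1 (h.MY (k.KM hg)) _).1 hyY⟩
        have h1 := k.act h (inv_mem hg) hx
        have h2 : y * (g⁻¹ * x * g⁻¹⁻¹ * x⁻¹) = (g⁻¹ * x * g⁻¹⁻¹ * x⁻¹) * y := elem_comm hE y hyE _ (hVE h1)
        have h3 : x * y = y * x := mem_centralizer_iff.1 hyX x hx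
        have h4 : y * (g⁻¹ * x * g) = (g⁻¹ * x * g) * y := by
          calc y * (g⁻¹ * x * g) = y * (g⁻¹ * x * g⁻¹⁻¹ * x⁻¹) * x := by group
            _ = (g⁻¹ * x * g⁻¹⁻¹ * x⁻¹) * (y * x) := by rw [h2]; group
            _ = (g⁻¹ * x * g⁻¹⁻¹ * x⁻¹) * (x * y) := by rw [h3]
            _ = _ := by group
        calc x * (g * y * g⁻¹) = g * ((g⁻¹ * x * g) * y) * g⁻¹ := by group
          _ = g * (y * (g⁻¹ * x * g)) * g⁻¹ := by rw [h4]
          _ = _ := by group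
      exact mem_normalizer_of_cj_le (key g hg)

namespace TK

variable (h : TK S B Q V Xn ZJ B0 X M0 Y0 L W Z C A z)
include h

theorem exists_Z (i : ι) : ∃ x ∈ Z i, x ≠ 1 := by
  by_contra hc
  push Not at hc
  have h1 : Z i = ⊥ := eq_bot_iff.2 fun x hx => mem_bot.2 (hc x hx)
  have h2 := h.fr.cardZ i
  rw [h1, Subgroup.card_bot] at h2
  omega

/-- **the common group for the blocks over one line** -/
theorem exists_U1 [Finite G] (l : ι) : ∃ U : Subgroup G, IsElementaryAbelian 2 U ∧ U ≤ B0 ∧ U ≤ Y0 ∧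
    ∀ K N N1 N0, BK B B0 X M0 Y0 W l K N N1 N0 → ⁅N, K⁆ ≤ U ∧ K ≤ normalizer (U : Set G) := by
  obtain ⟨E, hE, hEB, hZE, hn⟩ := h.loc1 l
  obtain ⟨U, h1, h2, h3, -, h4⟩ := exists_U_aux h hE fun e he hc => h.mX e (h.BS (hEB he)) hc
  refine ⟨U, h1, h2, h3, fun K N N1 N0 k => ?_⟩
  obtain ⟨x, hx, hx1⟩ := h.exists_Z l
  refine h4 l K N N1 N0 k (fun g hg => hn g fun p hp y hy => k.cW p hp y (h.ZW p hy) g hg) ⟨x, h.ZW l hx, hx1, 1, by simp, ?_⟩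
  rw [mul_one]
  exact hZE (h.fr.Z_le l hx)

/-- **the common group for the blocks over two lines** -/
theorem exists_U2 [Finite G] {l m : ι} (hlm : l ≠ m) : ∃ U : Subgroup G, IsElementaryAbelian 2 U ∧ U ≤ B0 ∧ U ≤ Y0 ∧
    (∀ K N N1 N0, BK B B0 X M0 Y0 W l K N N1 N0 → ⁅N, K⁆ ≤ U ∧ K ≤ normalizer (U : Set G)) ∧
    ∀ K N N1 N0, BK B B0 X M0 Y0 W m K N N1 N0 → ⁅N, K⁆ ≤ U ∧ K ≤ normalizer (U : Set G) := by
  obtain ⟨E, hE, hEB, hZE, hn⟩ := h.loc2 l m hlm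
  obtain ⟨U, h1, h2, h3, -, h4⟩ := exists_U_aux h hE hEB
  obtain ⟨x, hx, hx1⟩ := h.exists_Z l
  obtain ⟨y, hy, hy1⟩ := h.exists_Z m
  have hxy := hZE x hx y hy hx1 hy1
  have hcm : x * y = y * x := h.fr.Vc (h.fr.ZV l hx) (h.fr.ZV m hy)
  refine ⟨U, h1, h2, h3, fun K N N1 N0 k => ?_, fun K N N1 N0 k => ?_⟩
  · exact h4 l K N N1 N0 k (fun g hg => hn g fun p hp _ y hy => k.cW p hp y (h.ZW p hy) g hg)
      ⟨x, h.ZW l hx, hx1, y, fun g hg => k.cW m (Ne.symm hlm) y (h.ZW m hy) g hg, hxy⟩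
  · exact h4 m K N N1 N0 k (fun g hg => hn g fun p _ hp y hy => k.cW p hp y (h.ZW p hy) g hg)
      ⟨y, h.ZW m hy, hy1, x, fun g hg => k.cW l hlm x (h.ZW l hx) g hg, by rw [← hcm]; exact hxy⟩

end TK

namespace BK

/-- `Claim.Bl` on `U` -/
theorem bl [Finite G] (h : TK S B Q V Xn ZJ B0 X M0 Y0 L W Z C A z) (k : BK B B0 X M0 Y0 W l K N N1 N0)
    {U H : Subgroup G} {AA : Set (Subgroup G)} (f : Fm S U H B0 (U ⊓ X) AA) (hV : ⁅N, K⁆ ≤ U)
    (hK : K ≤ normalizer (U : Set G)) (hH : K ≤ H) : Bl S U H B0 (U ⊓ X) AA K ⁅N, K⁆ :=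
  BlOf.bl_V k.pb f (by rw [h.zB]) hV hH hK

/-- an element of `[[N, K], B₀]` not centralised by any block over the same line -/
theorem exists_nc [Finite G] (k : BK B B0 X M0 Y0 W l K N N1 N0) {K' : Subgroup G}
    (hK' : ∀ w ∈ W l, (∀ g ∈ K', g * w = w * g) → w = 1) (hc : Nat.card (W l) = 4) :
    ∃ b ∈ B0, ∃ v ∈ (⁅N, K⁆ : Subgroup G), b * v * b⁻¹ * v⁻¹ ∉ centralizer (K' : Set G) := by
  by_contra hcon
  push Not at hcon
  -- an element of `[N, K] - N₁`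
  obtain ⟨v, hv, hv1⟩ := k.pb.exists_v
  obtain ⟨u, hu, n, hn, rfl⟩ := k.pb.exists_V hv
  have hu1 : u ∉ N1 := fun h1 => hv1 (mul_mem h1 (k.pb.N01 hn))
  have huN := k.pb.VN hu
  -- an element of `W l`
  obtain ⟨w, hw, hw1⟩ : ∃ w ∈ W l, w ≠ 1 := by
    by_contra h0
    push Not at h0
    have h1 : W l = ⊥ := eq_bot_iff.2 fun x hx => mem_bot.2 (h0 x hx)
    rw [h1, Subgroup.card_bot] at hc
    omega
  obtain ⟨b, hb, n0, hn0, e⟩ := k.pb.line huN hu1 (k.WN hw)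
  obtain ⟨t, ht, htB, htW, hf⟩ := k.tor
  have h1 := hcon b hb u hu
  have htb : t * b * t⁻¹ ∈ B0 := (mem_normalizer_iff.1 htB b).1 hb
  have htu : t * u * t⁻¹ ∈ (⁅N, K⁆ : Subgroup G) := (mem_normalizer_iff.1 (k.pb.LV ht) u).1 hu
  have h2 := hcon _ htb _ htu
  have e1 : b * u * b⁻¹ * u⁻¹ = w * n0⁻¹ := by rw [e]; group
  have e2 : t * b * t⁻¹ * (t * u * t⁻¹) * (t * b * t⁻¹)⁻¹ * (t * u * t⁻¹)⁻¹ = t * (b * u * b⁻¹ * u⁻¹) * t⁻¹ := by group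
  have e3 : t * (w * n0⁻¹) * t⁻¹ * (w * n0⁻¹)⁻¹ = t * w * t⁻¹ * w⁻¹ := by
    have h3 := k.pb.N0c t ht n0 hn0
    calc t * (w * n0⁻¹) * t⁻¹ * (w * n0⁻¹)⁻¹ = t * w * (n0⁻¹ * t⁻¹) * n0 * w⁻¹ := by group
      _ = t * w * ((t * n0)⁻¹) * n0 * w⁻¹ := by group
      _ = t * w * ((n0 * t)⁻¹) * n0 * w⁻¹ := by rw [h3]
      _ = _ := by group
  have h4 : t * w * t⁻¹ * w⁻¹ ∈ centralizer (K' : Set G) := by
    rw [← e3, ← e1, ← e2]
    exact mul_mem h2 (inv_mem h1)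
  have h5 := hK' _ (mul_mem (htW w hw) (inv_mem hw)) fun g hg => mem_centralizer_iff.1 h4 g hg
  exact hw1 (hf w hw (mul_inv_eq_one.1 h5))

end BK

variable {K' N' N1' N0' : Subgroup G}

/-- **(UNI)** -/
theorem uni' [Finite G] (h : TK S B Q V Xn ZJ B0 X M0 Y0 L W Z C A z) (k : BK B B0 X M0 Y0 W l K N N1 N0)
    (k' : BK B B0 X M0 Y0 W l K' N' N1' N0') :
    ⁅N', K'⁆ ≤ ⁅N, K⁆ ⊔ X ∧ cB B0 ⁅N, K⁆ = cB B0 ⁅N', K'⁆ := by
  obtain ⟨U, hU, hUB, hUY, hall⟩ := h.exists_U1 l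
  obtain ⟨h1, h2⟩ := hall K N N1 N0 k
  obtain ⟨h1', h2'⟩ := hall K' N' N1' N0' k'
  obtain ⟨AA, f, -⟩ := h.fml U (normalizer (U : Set G) ⊓ M0) hU hUB hUY inf_le_left inf_le_right
  have b1 := k.bl h f h1 h2 (le_inf h2 k.KM)
  have b2 := k'.bl h f h1' h2' (le_inf h2' k'.KM)
  have hm := k'.exists_nc (K' := K) (fun w hw hc => k.W_cen hw hc) (h.cardW l)
  exact ⟨(uni f b1 b2 hm).trans (sup_le_sup_left inf_le_right _), cB_eq f b1 b2 hm⟩

/-- `[V X, B₀] = [V, B₀]` -/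
theorem comm_supX [Finite G] (h : TK S B Q V Xn ZJ B0 X M0 Y0 L W Z C A z) {D D' : Subgroup G} (hD' : D' ≤ D ⊔ X)
    (hD : D ≤ B0) : ⁅D', B0⁆ ≤ ⁅D, B0⁆ := by
  rw [Subgroup.commutator_le]
  intro v hv b hb
  obtain ⟨d, hd, x, hx, rfl⟩ := mem_sup_comm (fun a ha b hb => h.cX (hD ha) hb) (hD' hv)
  have h1 : ⁅d * x, b⁆ = ⁅d, b⁆ := by
    rw [commutatorElement_def, commutatorElement_def]
    have h2 := h.cX hb hx
    calc d * x * b * (d * x)⁻¹ * b⁻¹ = d * (x * b) * x⁻¹ * d⁻¹ * b⁻¹ := by group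
      _ = d * (b * x) * x⁻¹ * d⁻¹ * b⁻¹ := by rw [h2]
      _ = _ := by group
  rw [h1]
  exact commutator_mem_commutator hd hb

/-- `[[N, K], B₀]` depends only on the line -/
theorem ch_eq [Finite G] (h : TK S B Q V Xn ZJ B0 X M0 Y0 L W Z C A z) (k : BK B B0 X M0 Y0 W l K N N1 N0)
    (k' : BK B B0 X M0 Y0 W l K' N' N1' N0') : ⁅⁅N, K⁆, B0⁆ = ⁅⁅N', K'⁆, B0⁆ :=
  le_antisymm (comm_supX h (uni' h k' k).1 k'.VB0) (comm_supX h (uni' h k k').1 k.VB0)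

end Cfsg.Agent.Omega.OM.Lev.Low.TorusK

end

section


/-!
# TORUS, `k ≥ 3` (helper607 #23961): the last page, abstract form

`K m` acts on `F m` (order `16`) as `SL₂(4)`, `W m` a line of `F m`, `B0` the common root group. `R m ⊴ K m`,
`K m = R m (K m ∩ B0)` centralises `F l`, `l ≠ m`.

* `Dt` : the data;
* `Dt.inf_cen` : `C_(F m)(R m) = 1`; `comm`, `dir` : the `F m` form a direct product; `zn` : `z` has full support;
* `Dt.perm` : `L = ⟨K i0, S⟩` permutes the pairs `(F m, lines)`  (uses (Sig));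
* `Dt.false` : **contradiction**.
-/

set_option autoImplicit false
set_option linter.unusedSectionVars false
set_option linter.unusedVariables false

namespace Cfsg.Agent.Omega.OM.Lev.Low.TorusK.EndD

open Subgroup Cfsg Cfsg.Agent.ZN Cfsg.Agent.ZN.ChoiceBase
open Cfsg.Agent.Omega.OM.Lev.Low.TorusK.Sig (cn cn_cn cn_mul cn_inv cn_one cn_inv_cn cn_cn_inv cn_eq_self cn_inj mem_of_norm)

universe u

variable {G : Type u} [Group G]

/-- `F` is irreducible. -/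
theorem irr [Finite G] {B0 K V V1 : Subgroup G} (h : Sig.M4 B0 K V V1) {l0 : G} (hl0 : l0 ∈ K) (hne : cj l0 V1 ≠ V1)
    {C : Subgroup G} (hCV : C ≤ V) (hK : ∀ k ∈ K, ∀ u ∈ C, cn k u ∈ C) {u : G} (hu : u ∈ C) (hu1 : u ≠ 1) : V ≤ C := by
  have h1 : ∀ v ∈ C, v ∉ V1 → V1 ≤ C := by
    intro v hv hv1 x hx
    obtain ⟨b, hb, e⟩ := h.full (hCV hv) hv1 hx
    have e2 : x = cn b v * v⁻¹ := by rw [e]; group
    rw [e2]
    exact mul_mem (hK b (h.BK hb) v hv) (inv_mem hv)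
  have h2 : V1 ≤ C := by
    by_cases hu2 : u ∈ V1
    · refine h1 (cn l0 u) (hK l0 hl0 u hu) fun h3 => ?_
      exact hu1 (h.opp l0 hl0 hne u hu2 h3)
    · exact h1 u hu hu2
  intro v hv
  obtain ⟨p, hp, q, hq, rfl⟩ := h.compl hl0 hne hv
  obtain ⟨w, hw, rfl⟩ := hq
  exact mul_mem (h2 hp) (hK l0 hl0 w (h2 hw))

/-- The data of the last page. -/
structure Dt {ι : Type*} (S B B0 X : Subgroup G) (K F W R : ι → Subgroup G) (i0 : ι) (z : G) : Prop where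
  two : IsPGroup 2 S
  BS : B ≤ S
  B0B : B0 ≤ B
  SB : S ≤ normalizer (B : Set G)
  SB0 : S ≤ normalizer (B0 : Set G)
  n4 : ∀ m, TorusK.N4 B0 (K m) (F m) (W m)
  FX : ∀ m, F m ⊓ X = W m
  FB0 : ∀ m, F m ≤ B0
  perm : ∀ s ∈ S, ∀ i, ∃ j, cj s (W i) = W j ∧ cj s (F i) = F j
  tr : ∀ m, ∃ s ∈ S, cj s (K i0) = K m ∧ cj s (W i0) = W m
  RK : ∀ m, R m ≤ K m
  KR : ∀ m, K m ≤ normalizer (R m : Set G)
  KRB : ∀ m, K m ≤ R m ⊔ B0
  RF : ∀ m l, l ≠ m → ∀ r ∈ R m, ∀ f ∈ F l, r * f = f * r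
  BW : B ≤ normalizer (W i0 : Set G)
  /-- `B` permutes the lines of `K i0` -/
  BL : ∀ b ∈ B, ∀ k ∈ K i0, ∃ k' ∈ K i0, cj b (cj k (W i0)) = cj k' (W i0)
  fx : ∃ x ∈ W i0, x ≠ 1 ∧ ∀ s ∈ S, s ∈ normalizer (W i0 : Set G) → s * x = x * s
  mv : ∃ t ∈ B, ∃ v ∈ W i0, t * v ≠ v * t
  syl : ∀ s ∈ S, s ∈ normalizer (W i0 : Set G) → ∀ T : Subgroup G, IsPGroup 2 T → B ≤ T →
    T ≤ K i0 ⊔ cj s (K i0) ⊔ B → T ≤ B
  zW : z ∈ ⨆ i, W i
  zn0 : ∀ i, z ∉ ⨆ (l) (_ : l ≠ i), W l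
  fact : ∀ H : Subgroup G, S ≤ H → (∃ U : Subgroup G, U ≠ ⊥ ∧ IsPGroup 2 U ∧ H ≤ normalizer (U : Set G)) →
    H ≤ (H ⊓ normalizer (X : Set G)) ⊔ (H ⊓ centralizer ({z} : Set G))

namespace Dt

variable {ι : Type*} {S B B0 X : Subgroup G} {K F W R : ι → Subgroup G} {i0 : ι} {z : G}
  (D : Dt S B B0 X K F W R i0 z)
include D

theorem m4 (m : ι) : Sig.M4 B0 (K m) (F m) (W m) := (SigN4.toSig (D.n4 m)).toM4

theorem mvK (m : ι) : ∃ l ∈ K m, cj l (W m) ≠ W m := by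
  obtain ⟨l, hl, v, hv, hne⟩ := (D.n4 m).mv
  refine ⟨l, hl, fun e => hne ?_⟩
  rw [← e]
  exact ⟨v, hv, rfl⟩

theorem WF (m : ι) : W m ≤ F m := (D.n4 m).V1V

/-- `C_(F m)(R m) = 1` -/
theorem inf_cen [Finite G] (m : ι) {u : G} (hu : u ∈ F m) (hc : ∀ r ∈ R m, r * u = u * r) : u = 1 := by
  by_contra hu1
  obtain ⟨l, hl, hne⟩ := D.mvK m
  have h1 : F m ≤ F m ⊓ centralizer (R m : Set G) := by
    refine irr (D.m4 m) hl hne inf_le_left ?_ (mem_inf.2 ⟨hu, mem_centralizer_iff.2 hc⟩) hu1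
    rintro k hk v ⟨hv, hvc⟩
    refine mem_inf.2 ⟨mem_of_norm ((D.n4 m).KV hk) hv, mem_centralizer_iff.2 fun r hr => ?_⟩
    have h2 : k⁻¹ * r * k ∈ R m := by
      have := (mem_normalizer_iff.1 (inv_mem (D.KR m hk)) r).1 hr
      rwa [inv_inv] at this
    have h3 := mem_centralizer_iff.1 hvc _ h2
    show r * (k * v * k⁻¹) = k * v * k⁻¹ * r
    calc r * (k * v * k⁻¹) = k * (k⁻¹ * r * k * v) * k⁻¹ := by group
      _ = k * (v * (k⁻¹ * r * k)) * k⁻¹ := by rw [h3]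
      _ = k * v * k⁻¹ * r := by group
  have h4 : R m ⊔ B0 ≤ centralizer (W m : Set G) := by
    refine sup_le (fun r hr => mem_centralizer_iff.2 fun w hw => ?_) fun b hb => mem_centralizer_iff.2 fun w hw => ?_
    · exact (mem_centralizer_iff.1 (h1 (D.WF m hw)).2 r hr).symm
    · exact ((D.n4 m).c1 b hb w hw).symm
  apply hne
  have h5 := D.KRB m hl
  refine mem_normalizer_iff_cj.1 (centralizer_le_normalizer _ (h4 h5))

theorem comm [Finite G] {i l : ι} (hil : i ≠ l) {u v : G} (hu : u ∈ F i) (hv : v ∈ F l) : u * v = v * u := by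
  have h1 : u * v * u⁻¹ * v⁻¹ ∈ F l :=
    mul_mem (mem_of_norm ((D.n4 l).KV ((D.n4 l).BK (D.FB0 i hu))) hv) (inv_mem hv)
  have h2 : u * v * u⁻¹ * v⁻¹ ∈ F i := by
    have e : u * v * u⁻¹ * v⁻¹ = u * (v * u⁻¹ * v⁻¹) := by group
    rw [e]
    exact mul_mem hu (mem_of_norm ((D.n4 i).KV ((D.n4 i).BK (D.FB0 l hv))) (inv_mem hu))
  have h3 := D.inf_cen i h2 fun r hr => D.RF i l (Ne.symm hil) r hr _ h1
  have h4 : u * v * (v * u)⁻¹ = 1 := by rw [← h3]; group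
  exact mul_inv_eq_one.1 h4

theorem RU (i : ι) : (⨆ (l) (_ : l ≠ i), F l) ≤ centralizer (R i : Set G) :=
  iSup₂_le fun l hl f hf => mem_centralizer_iff.2 fun r hr => D.RF i l hl r hr f hf

theorem dir [Finite G] (i : ι) : F i ⊓ ⨆ (l) (_ : l ≠ i), F l = ⊥ := by
  rw [Subgroup.eq_bot_iff_forall]
  rintro u ⟨hu, hu'⟩
  exact D.inf_cen i hu fun r hr => mem_centralizer_iff.1 (D.RU i hu') r hr

theorem zn [Finite G] (i : ι) : z ∉ ⨆ (l) (_ : l ≠ i), F l := by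
  intro hz
  have h1 : ⨆ i, W i ≤ W i ⊔ ⨆ (l) (_ : l ≠ i), W l := by
    refine iSup_le fun l => ?_
    by_cases e : l = i
    · subst e
      exact le_sup_left
    · exact le_trans (le_iSup₂ (f := fun (l : ι) (_ : l ≠ i) => W l) l e) le_sup_right
  have h2 : (⨆ (l) (_ : l ≠ i), W l) ≤ ⨆ (l) (_ : l ≠ i), F l := iSup₂_mono fun l _ => D.WF l
  have hcm : ∀ p ∈ W i, ∀ q ∈ ⨆ (l) (_ : l ≠ i), W l, p * q = q * p := by
    intro p hp q hq
    have h3 : (⨆ (l) (_ : l ≠ i), W l) ≤ centralizer ({p} : Set G) := iSup₂_le fun l hl w hw => by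
      rw [mem_centralizer_singleton_iff]
      exact (D.comm (Ne.symm hl) (D.WF i hp) (D.WF l hw)).symm
    exact (mem_centralizer_singleton_iff.1 (h3 hq)).symm
  obtain ⟨p, hp, q, hq, e⟩ := EndK.mem_sup_comm hcm (h1 D.zW)
  have hp1 : p = 1 := by
    refine D.inf_cen i (D.WF i hp) fun r hr => ?_
    have e1 := mem_centralizer_iff.1 (D.RU i hz) r hr
    have e2 := mem_centralizer_iff.1 (D.RU i (h2 hq)) r hr
    have e3 : p = z * q⁻¹ := by rw [e]; group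
    rw [e3]
    calc r * (z * q⁻¹) = r * z * q⁻¹ := by group
      _ = z * (r * q⁻¹) := by rw [e1]; group
      _ = z * (q⁻¹ * (q * r) * q⁻¹) := by group
      _ = z * (q⁻¹ * (r * q) * q⁻¹) := by rw [e2]
      _ = z * q⁻¹ * r := by group
  rw [hp1, one_mul] at e
  exact D.zn0 i (e ▸ hq)

/-- the lines of `F i` -/
def Ln (K W : ι → Subgroup G) (i : ι) : Set (Subgroup G) := {ℓ | ∃ k ∈ K i, ℓ = cj k (W i)}

omit D in
/-- `g` maps `(F i, lines)` to `(F j, lines)` -/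
def Pm (K F W : ι → Subgroup G) (i j : ι) (g : G) : Prop :=
  cj g (F i) = F j ∧ ∀ ℓ ∈ Ln K W i, cj g ℓ ∈ Ln K W j

omit D in
theorem Pm.mul {K F W : ι → Subgroup G} {i j l : ι} {g g' : G} (h : Pm K F W j l g) (h' : Pm K F W i j g') :
    Pm K F W i l (g * g') :=
  ⟨by rw [← cj_cj, h'.1, h.1], fun ℓ hℓ => by rw [← cj_cj]; exact h.2 _ (h'.2 ℓ hℓ)⟩

omit D in
theorem Pm.one {K F W : ι → Subgroup G} (i : ι) : Pm K F W i i 1 := ⟨cj_one _, fun ℓ hℓ => by rwa [cj_one]⟩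

/-- (Sig) -/
theorem sig [Finite G] : ∀ s ∈ S, s ∈ normalizer (W i0 : Set G) → ∀ k ∈ K i0, ∃ k' ∈ K i0,
    cj s (cj k (W i0)) = cj k' (W i0) := by
  intro s hs hsW
  obtain ⟨x, hx, hx1, hxc⟩ := D.fx
  obtain ⟨t, ht, hmv⟩ := D.mv
  have hFn : S ⊓ normalizer (W i0 : Set G) ≤ normalizer (F i0 : Set G) := by
    rintro s ⟨hs, hsW⟩
    obtain ⟨j, h1, h2⟩ := D.perm s hs i0
    rw [mem_normalizer_iff_cj.1 hsW] at h1
    have h3 : i0 = j := by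
      by_contra hne
      have h4 : W j ≤ F i0 ⊓ F j := le_inf (h1 ▸ D.WF i0) (D.WF j)
      have h5 : F i0 ⊓ F j ≤ F i0 ⊓ ⨆ (l) (_ : l ≠ i0), F l :=
        inf_le_inf_left _ (le_iSup₂_of_le j (Ne.symm hne) le_rfl)
      rw [D.dir i0] at h5
      have h6 := (D.n4 j).card1
      rw [eq_bot_iff.2 (h4.trans h5), Subgroup.card_bot] at h6
      omega
    rw [← h3] at h2
    exact mem_normalizer_iff_cj.2 h2
  have hBS1 : B ≤ S ⊓ normalizer (W i0 : Set G) := le_inf D.BS D.BW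
  exact SigN4.sig' (D.n4 i0) (D.two.to_le inf_le_left) hBS1 D.B0B (inf_le_left.trans D.SB) (inf_le_left.trans D.SB0) hFn
    inf_le_right D.BL hx hx1 (fun s hs => hxc s hs.1 hs.2) ht hmv (fun s hs => D.syl s hs.1 hs.2) s ⟨hs, hsW⟩

/-- `S` permutes the pairs `(F i, lines)` -/
theorem pmS [Finite G] {s : G} (hs : s ∈ S) (i : ι) : ∃ j, Pm K F W i j s := by
  obtain ⟨j, h1, h2⟩ := D.perm s hs i
  refine ⟨j, h2, ?_⟩
  rintro _ ⟨k, hk, rfl⟩
  obtain ⟨a, ha, ea, ea'⟩ := D.tr i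
  obtain ⟨b, hb, eb, eb'⟩ := D.tr j
  rw [← ea] at hk
  obtain ⟨k0, hk0, rfl⟩ := hk
  change ∃ k ∈ K j, cj s (cj (a * k0 * a⁻¹) (W i)) = cj k (W j)
  have hs' : b⁻¹ * s * a ∈ S := mul_mem (mul_mem (inv_mem hb) hs) ha
  have hs'W : b⁻¹ * s * a ∈ normalizer (W i0 : Set G) := by
    rw [mem_normalizer_iff_cj, mul_assoc, ← cj_cj, ← cj_cj, ea', h1, ← eb', cj_inv_cj]
  obtain ⟨k', hk', e⟩ := D.sig _ hs' hs'W k0 hk0
  refine ⟨b * k' * b⁻¹, ?_, ?_⟩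
  · rw [← eb]
    exact ⟨k', hk', rfl⟩
  · rw [← ea', ← eb', cj_cj, cj_cj, cj_cj]
    have e2 := congrArg (cj b) e
    rw [cj_cj, cj_cj, cj_cj] at e2
    have e3 : s * (a * k0 * a⁻¹) * a = b * (b⁻¹ * s * a) * k0 := by group
    have e4 : b * k' * b⁻¹ * b = b * k' := by group
    rw [e3, e4]
    exact e2

theorem pmK [Finite G] (m i : ι) {g : G} (hg : g ∈ K m) : Pm K F W i i g := by
  let N : Subgroup G :=
    { carrier := {g | Pm K F W i i g ∧ Pm K F W i i g⁻¹}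
      one_mem' := ⟨Pm.one i, by rw [inv_one]; exact Pm.one i⟩
      mul_mem' := by
        rintro g g' ⟨h1, h2⟩ ⟨h3, h4⟩
        exact ⟨h1.mul h3, by rw [mul_inv_rev]; exact h4.mul h2⟩
      inv_mem' := by
        rintro g ⟨h1, h2⟩
        exact ⟨h2, by rwa [inv_inv]⟩ }
  have hKi : ∀ g ∈ K i, Pm K F W i i g := by
    intro g hg
    refine ⟨mem_normalizer_iff_cj.1 ((D.n4 i).KV hg), ?_⟩
    rintro _ ⟨k, hk, rfl⟩
    exact ⟨g * k, mul_mem hg hk, cj_cj _ _ _⟩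
  have hKN : K i ≤ N := fun g hg => ⟨hKi g hg, hKi _ (inv_mem hg)⟩
  by_cases him : i = m
  · subst him
    exact hKi g hg
  · have hR : ∀ r ∈ R m, Pm K F W i i r := by
      intro r hr
      have h1 : ∀ H : Subgroup G, H ≤ F i → cj r H = H := by
        intro H hH
        have h2 : r ∈ centralizer (H : Set G) := mem_centralizer_iff.2 fun h hh => (D.RF m i him r hr h (hH hh)).symm
        exact mem_normalizer_iff_cj.1 (centralizer_le_normalizer _ h2)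
      refine ⟨h1 _ le_rfl, ?_⟩
      rintro _ ⟨k, hk, rfl⟩
      rw [h1 _ ((D.m4 i).lineV hk)]
      exact ⟨k, hk, rfl⟩
    have hRN : R m ≤ N := fun g hg => ⟨hR g hg, hR _ (inv_mem hg)⟩
    have h3 : K m ≤ N := (D.KRB m).trans (sup_le hRN ((D.n4 i).BK.trans hKN))
    exact (h3 hg).1

/-- **`L = ⟨K i0, S⟩` permutes the pairs.** -/
theorem pm [Finite G] {g : G} (hg : g ∈ K i0 ⊔ S) (i : ι) : ∃ j, Pm K F W i j g := by
  let N : Subgroup G :=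
    { carrier := {g | (∀ i, ∃ j, Pm K F W i j g) ∧ ∀ i, ∃ j, Pm K F W i j g⁻¹}
      one_mem' := ⟨fun i => ⟨i, Pm.one i⟩, fun i => ⟨i, by rw [inv_one]; exact Pm.one i⟩⟩
      mul_mem' := by
        rintro g g' ⟨h1, h2⟩ ⟨h3, h4⟩
        refine ⟨fun i => ?_, fun i => ?_⟩
        · obtain ⟨j, hj⟩ := h3 i
          obtain ⟨l, hl⟩ := h1 j
          exact ⟨l, hl.mul hj⟩
        · obtain ⟨j, hj⟩ := h2 i
          obtain ⟨l, hl⟩ := h4 j
          exact ⟨l, by rw [mul_inv_rev]; exact hl.mul hj⟩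
      inv_mem' := by
        rintro g ⟨h1, h2⟩
        exact ⟨h2, by simpa using h1⟩ }
  have h1 : K i0 ⊔ S ≤ N := sup_le (fun g hg => ⟨fun i => ⟨i, D.pmK i0 i hg⟩, fun i => ⟨i, D.pmK i0 i (inv_mem hg)⟩⟩)
    fun g hg => ⟨fun i => D.pmS hg i, fun i => D.pmS (inv_mem hg) i⟩
  exact (h1 hg).1 i

/-- **CONTRADICTION.** -/
theorem false [Finite G] : False := by
  have hSys : EndK.Sys (K i0 ⊔ S) F W (Ln K W) z :=
    { comm := fun i l hil u hu v hv => D.comm hil hu hv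
      dir := D.dir
      le := by
        rintro i _ ⟨k, hk, rfl⟩
        exact (D.m4 i).lineV hk
      mem := fun i => ⟨1, one_mem _, (cj_one _).symm⟩
      spr := by
        rintro i _ ⟨k, hk, rfl⟩ _ ⟨k', hk', rfl⟩ u hu hu' hu1
        exact (D.m4 i).spread hk hk' hu hu' hu1
      perm := fun g hg i => D.pm hg i
      zV := D.zW
      zn := D.zn }
  -- `L` is local
  have hloc : ∃ U : Subgroup G, U ≠ ⊥ ∧ IsPGroup 2 U ∧ K i0 ⊔ S ≤ normalizer (U : Set G) := by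
    refine ⟨⨆ i, F i, ?_, ?_, ?_⟩
    · intro e
      have h1 : F i0 ≤ ⊥ := by rw [← e]; exact le_iSup F i0
      have h2 := (D.n4 i0).card
      rw [eq_bot_iff.2 h1, Subgroup.card_bot] at h2
      omega
    · exact D.two.to_le ((iSup_le D.FB0).trans (D.B0B.trans D.BS))
    · intro g hg
      refine mem_normalizer_of_cj_le ?_
      rw [show cj g (⨆ i, F i) = (⨆ i, F i).map (MulAut.conj g).toMonoidHom from rfl, Subgroup.map_iSup]
      refine iSup_le fun i => ?_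
      obtain ⟨j, e, -⟩ := D.pm hg i
      rw [show (F i).map (MulAut.conj g).toMonoidHom = cj g (F i) from rfl, e]
      exact le_iSup F j
  have hf := D.fact _ le_sup_right hloc
  have hcj : ∀ g ∈ K i0 ⊔ S, g ∈ normalizer (X : Set G) → cj g (⨆ i, W i) ≤ ⨆ i, W i := by
    intro g hg hgX
    rw [show cj g (⨆ i, W i) = (⨆ i, W i).map (MulAut.conj g).toMonoidHom from rfl, Subgroup.map_iSup]
    refine iSup_le fun i => ?_
    obtain ⟨j, e, -⟩ := D.pm hg i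
    rw [show (W i).map (MulAut.conj g).toMonoidHom = cj g (W i) from rfl, ← D.FX i, cj_inf, e,
      mem_normalizer_iff_cj.1 hgX, D.FX j]
    exact le_iSup W j
  obtain ⟨l, hl, hne⟩ := D.mvK i0
  refine hSys.false_of (gen := (((K i0 ⊔ S) ⊓ normalizer (X : Set G) : Subgroup G) : Set G) ∪
    (((K i0 ⊔ S) ⊓ centralizer ({z} : Set G) : Subgroup G) : Set G)) ?_ ?_ (x := l) (le_sup_left (a := K i0) hl) (i := i0)
    (mem_normalizer_iff_cj.1 ((D.n4 i0).KV hl)) hne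
  · rw [Subgroup.closure_union, Subgroup.closure_eq, Subgroup.closure_eq]
    exact hf
  · rintro g (⟨hg, hgX⟩ | ⟨hg, hgz⟩)
    · right
      exact mem_normalizer_iff_cj.1 (mem_normalizer_of_cj_le (hcj g hg hgX))
    · left
      exact ⟨hg, mem_centralizer_singleton_iff.1 hgz⟩

end Dt

end Cfsg.Agent.Omega.OM.Lev.Low.TorusK.EndD

end

section


/-!
# TORUS, `k ≥ 3` (helper607 #23961): the last page over `TK` and `BK`

* `false_of` : for a family `K m` of `S`-conjugate torus blocks over the lines `W m`;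
* `false_one` : for one torus block.
-/

set_option autoImplicit false
set_option linter.unusedSectionVars false
set_option linter.unusedVariables false

namespace Cfsg.Agent.Omega.OM.Lev.Low.TorusK.EndTK

open Subgroup Cfsg Cfsg.Agent.ZN Cfsg.Agent.ZN.ChoiceBase
open Cfsg.Agent.Omega.OM.Lev.Low

universe u

variable {G : Type u} [Group G]

variable {ι : Type} {S B Q V Xn ZJ B0 X M0 Y0 : Subgroup G} {L W Z C A : ι → Subgroup G} {z : G}

theorem W_inj (h : TK S B Q V Xn ZJ B0 X M0 Y0 L W Z C A z) {i j : ι} (e : W i = W j) : i = j := by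
  by_contra hne
  have h2 := h.fr.WjC i j hne
  rw [← e] at h2
  have h3 : W i ≤ W i ⊓ C i := le_inf le_rfl h2
  rw [h.fr.dir i] at h3
  have h4 := h.cardW i
  rw [eq_bot_iff.2 h3, Subgroup.card_bot] at h4
  omega

theorem F_le {l : ι} {K N N1 N0 : Subgroup G} (k : BK B B0 X M0 Y0 W l K N N1 N0) : ⁅N, K⁆ ≤ N := by
  rw [Subgroup.commutator_le]
  intro v hv g hg
  rw [commutatorElement_def]
  have h1 := k.pb.Nn g hg v⁻¹ (inv_mem hv)
  have e : v * g * v⁻¹ * g⁻¹ = v * (g * v⁻¹ * g⁻¹) := by group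
  rw [e]
  exact mul_mem hv h1

theorem cj_comm (s : G) (N K : Subgroup G) : cj s ⁅N, K⁆ = ⁅cj s N, cj s K⁆ := Subgroup.map_commutator _ _ _

/-- `z_l`: the elements of `S` which normalise `W l` centralise `Z l`. -/
theorem fx [Finite G] (h : TK S B Q V Xn ZJ B0 X M0 Y0 L W Z C A z) (i0 : ι) :
    ∃ x ∈ W i0, x ≠ 1 ∧ ∀ s ∈ S, s ∈ normalizer (W i0 : Set G) → s * x = x * s := by
  have h1 : Z i0 ≠ ⊥ := by
    intro e
    have h2 := h.fr.cardZ i0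
    rw [e, Subgroup.card_bot] at h2
    omega
  obtain ⟨⟨x, hx⟩, hx1'⟩ := Subgroup.ne_bot_iff_exists_ne_one.1 h1
  have hx1 : x ≠ 1 := fun e => hx1' (Subtype.ext e)
  refine ⟨x, h.ZW i0 hx, hx1, fun s hs hsW => ?_⟩
  obtain ⟨j, e1, e2, -⟩ := h.perm s hs i0
  rw [mem_normalizer_iff_cj.1 hsW] at e1
  have e3 := W_inj h e1
  rw [← e3] at e2
  have h3 : s * x * s⁻¹ ∈ Z i0 := by
    have : s * x * s⁻¹ ∈ cj s (Z i0) := ⟨x, hx, rfl⟩
    rwa [e2] at this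
  have h4 : s * x * s⁻¹ ≠ 1 := by
    intro e
    apply hx1
    calc x = s⁻¹ * (s * x * s⁻¹) * s := by group
      _ = 1 := by rw [e]; group
  exact mul_inv_eq_iff_eq_mul.1 (h.Z_two i0 h3 hx h4 hx1)

theorem BW (h : TK S B Q V Xn ZJ B0 X M0 Y0 L W Z C A z) (i0 : ι) [Finite G] : B ≤ normalizer (W i0 : Set G) := by
  intro b hb
  refine mem_normalizer_of_cj_le ?_
  rintro _ ⟨w, hw, rfl⟩
  exact (h.fr.blk i0).nV b ((h.fr.blk i0).BL hb) w hw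

theorem syl [Finite G] (h : TK S B Q V Xn ZJ B0 X M0 Y0 L W Z C A z) {i0 : ι} {K N N1 N0 : Subgroup G}
    (k : BK B B0 X M0 Y0 W i0 K N N1 N0) : ∀ s ∈ S, s ∈ normalizer (W i0 : Set G) → ∀ T : Subgroup G, IsPGroup 2 T →
      B ≤ T → T ≤ K ⊔ cj s K ⊔ B → T ≤ B := by
  intro s hs hsW T hT hBT hle
  refine h.syl i0 T hT hBT fun p hp => hle.trans ?_
  have k' := BK.cj h k hs (mem_normalizer_iff_cj.1 hsW)
  refine sup_le (sup_le ?_ ?_) ?_
  · exact fun x hx => mem_centralizer_iff.2 fun w hw => (k.cW p hp w (h.ZW p hw) x hx).symm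
  · exact fun x hx => mem_centralizer_iff.2 fun w hw => (k'.cW p hp w (h.ZW p hw) x hx).symm
  · exact fun x hx => mem_centralizer_iff.2 fun w hw => (((h.fr.mem_ZJ w).1 (h.fr.Z_le p hw)).2 x hx).symm

/-- **The last page, for a family of `S`-conjugate blocks** (`B` permutes the lines `(W i0)^k`, `k ∈ K i0`). -/
theorem false_BL [Finite G] [Finite ι] (h : TK S B Q V Xn ZJ B0 X M0 Y0 L W Z C A z) {i0 : ι}
    {K N N1 N0 : ι → Subgroup G} (bk : ∀ m, BK B B0 X M0 Y0 W m (K m) (N m) (N1 m) (N0 m))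
    (n4 : ∀ m, N4 B0 (K m) ⁅N m, K m⁆ (W m)) (FX : ∀ m, ⁅N m, K m⁆ ⊓ X = W m)
    (perm : ∀ s ∈ S, ∀ i j, cj s (W i) = W j → cj s ⁅N i, K i⁆ = ⁅N j, K j⁆)
    (tr : ∀ m, ∃ s ∈ S, cj s (K i0) = K m ∧ cj s (W i0) = W m)
    (theta : ∀ m, ∃ R ≤ K m, K m ≤ normalizer (R : Set G) ∧ K m ≤ R ⊔ B0 ∧
      ∀ l, l ≠ m → R ≤ centralizer ((⁅N l, K l⁆ : Subgroup G) : Set G))
    (BL : ∀ b ∈ B, ∀ k ∈ K i0, ∃ k' ∈ K i0, cj b (cj k (W i0)) = cj k' (W i0)) : False := by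
  choose R hRK hKR hKRB hRF using theta
  have D : EndD.Dt S B B0 X K (fun m => ⁅N m, K m⁆) W R i0 z :=
    { two := h.two
      BS := h.BS
      B0B := h.B0B
      SB := h.SB
      SB0 := h.SB0
      n4 := n4
      FX := FX
      FB0 := fun m => (F_le (bk m)).trans (bk m).pb.NB
      perm := fun s hs i => by
        obtain ⟨j, e, -, -⟩ := h.perm s hs i
        exact ⟨j, e, perm s hs i j e⟩
      tr := tr
      RK := hRK
      KR := hKR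
      KRB := hKRB
      RF := fun m l hl r hr f hf => (mem_centralizer_iff.1 (hRF m l hl hr) f hf).symm
      BW := BW h i0
      BL := BL
      fx := fx h i0
      mv := by
        obtain ⟨t, ht, -, w, hw, hne⟩ := h.exists_t i0
        exact ⟨t, ht, w, hw, hne⟩
      syl := syl h (bk i0)
      zW := zj_le h.fr (fun i => (h.ZW i).trans (le_iSup W i)) h.zJ
      zn0 := fun i hi => h.zC i ((iSup₂_le fun l hl => h.fr.WjC i l (Ne.symm hl) : (⨆ (l) (_ : l ≠ i), W l) ≤ C i) hi)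
      fact := h.fact }
  exact D.false

/-- **The last page, for a family of `S`-conjugate blocks.** -/
theorem false_of [Finite G] [Finite ι] (h : TK S B Q V Xn ZJ B0 X M0 Y0 L W Z C A z) {i0 : ι}
    {K N N1 N0 : ι → Subgroup G} (bk : ∀ m, BK B B0 X M0 Y0 W m (K m) (N m) (N1 m) (N0 m))
    (n4 : ∀ m, N4 B0 (K m) ⁅N m, K m⁆ (W m)) (FX : ∀ m, ⁅N m, K m⁆ ⊓ X = W m)
    (perm : ∀ s ∈ S, ∀ i j, cj s (W i) = W j → cj s ⁅N i, K i⁆ = ⁅N j, K j⁆)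
    (tr : ∀ m, ∃ s ∈ S, cj s (K i0) = K m ∧ cj s (W i0) = W m)
    (theta : ∀ m, ∃ R ≤ K m, K m ≤ normalizer (R : Set G) ∧ K m ≤ R ⊔ B0 ∧
      ∀ l, l ≠ m → R ≤ centralizer ((⁅N l, K l⁆ : Subgroup G) : Set G))
    (hBN : ∀ b ∈ B, ∀ g ∈ K i0, ∃ g' ∈ K i0, cj b (cj g (N1 i0)) = cj g' (N1 i0)) : False := by
  have hSF : ∀ b ∈ B, cj b ⁅N i0, K i0⁆ = ⁅N i0, K i0⁆ := fun b hb =>
    perm b (h.BS hb) i0 i0 (mem_normalizer_iff_cj.1 (BW h i0 hb))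
  have hN1X : N1 i0 ≤ X := by
    rw [← h.zB]
    intro v hv
    have hvN := (bk i0).pb.N1N hv
    exact mem_zc.2 ⟨(bk i0).pb.NB hvN, SQ1.Bau.elem_sq (bk i0).pb.el v hvN, fun b hb => (bk i0).pb.N1c b hb v hv⟩
  have hFN1 : ⁅N i0, K i0⁆ ⊓ N1 i0 = W i0 := by
    refine le_antisymm ?_ (le_inf (n4 i0).V1V (bk i0).WN)
    rw [← FX i0]
    exact inf_le_inf_left _ hN1X
  have hFg : ∀ g ∈ K i0, cj g (W i0) = ⁅N i0, K i0⁆ ⊓ cj g (N1 i0) := by
    intro g hg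
    rw [← hFN1, cj_inf, mem_normalizer_iff_cj.1 ((n4 i0).KV hg)]
  refine false_BL h bk n4 FX perm tr theta ?_
  intro b hb k hk
  obtain ⟨k', hk', e⟩ := hBN b hb k hk
  refine ⟨k', hk', ?_⟩
  rw [hFg k hk, cj_inf, hSF b hb, e, ← hFg k' hk']

/-- **The last page, for one torus block.** -/
theorem false_one [Finite G] [Finite ι] (h : TK S B Q V Xn ZJ B0 X M0 Y0 L W Z C A z) {i0 : ι}
    {K N N1 N0 : Subgroup G} (k : BK B B0 X M0 Y0 W i0 K N N1 N0)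
    (n4 : ∀ l (K N N1 N0 : Subgroup G), BK B B0 X M0 Y0 W l K N N1 N0 → N4 B0 K ⁅N, K⁆ (W l))
    (FX : ∀ l (K N N1 N0 : Subgroup G), BK B B0 X M0 Y0 W l K N N1 N0 → ⁅N, K⁆ ⊓ X = W l)
    (chi : ∀ l (K N N1 N0 K' N' N1' N0' : Subgroup G), BK B B0 X M0 Y0 W l K N N1 N0 →
      BK B B0 X M0 Y0 W l K' N' N1' N0' → ⁅N, K⁆ = ⁅N', K'⁆)
    (theta : ∀ K N N1 N0 : ι → Subgroup G, (∀ m, BK B B0 X M0 Y0 W m (K m) (N m) (N1 m) (N0 m)) → ∀ m,
      ∃ R ≤ K m, K m ≤ normalizer (R : Set G) ∧ K m ≤ R ⊔ B0 ∧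
        ∀ l, l ≠ m → R ≤ centralizer ((⁅N l, K l⁆ : Subgroup G) : Set G))
    (hBN : ∀ b ∈ B, ∀ g ∈ K, ∃ g' ∈ K, cj b (cj g N1) = cj g' N1) : False := by
  classical
  have htr : ∀ m, ∃ s ∈ S, cj s (W i0) = W m ∧ (m = i0 → s = 1) := by
    intro m
    by_cases e : m = i0
    · subst e
      exact ⟨1, one_mem _, cj_one _, fun _ => rfl⟩
    · obtain ⟨s, hs, e'⟩ := h.tr i0 m
      exact ⟨s, hs, e', fun e'' => absurd e'' e⟩
  choose s hs hsW hs1 using htr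
  have hs0 : s i0 = 1 := hs1 i0 rfl
  have bk : ∀ m, BK B B0 X M0 Y0 W m (cj (s m) K) (cj (s m) N) (cj (s m) N1) (cj (s m) N0) := fun m =>
    BK.cj h k (hs m) (hsW m)
  refine false_of h (i0 := i0) bk (fun m => n4 m _ _ _ _ (bk m)) (fun m => FX m _ _ _ _ (bk m)) ?_ ?_
    (theta _ _ _ _ bk) ?_
  · intro t ht i j e
    rw [cj_comm]
    exact chi j _ _ _ _ _ _ _ _ (BK.cj h (bk i) ht e) (bk j)
  · intro m
    refine ⟨s m, hs m, ?_, hsW m⟩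
    rw [hs0, cj_one]
  · rw [hs0, cj_one, cj_one]
    exact hBN

end Cfsg.Agent.Omega.OM.Lev.Low.TorusK.EndTK

end

end

-- merged: Cfsg.Agent.Mrg.Omega.OM.Lev.Low.TorusK.Chi
section

/-!
# TORUS, `k ≥ 4`, (chi) of helper607 #23961

`F`, `F'` are the modules of two blocks `K`, `K'` with the same line `c`, `F' ≤ F X`, `X = c Xk`: then `F' = F`.

* `chi` : abstract form (induction over the `B`-invariant subgroups `M` of `F`).
-/

set_option autoImplicit false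
set_option linter.unusedSectionVars false
set_option linter.unusedVariables false

namespace Cfsg.Agent.Omega.OM.Lev.Low.TorusK.Chi

open Subgroup Cfsg Cfsg.Agent.ZN.ChoiceBase
open Cfsg.Agent.Omega.SQ1.Bau (mem_sup_comm card_sup_comm)

universe u

variable {G : Type u} [Group G]

/-- The input of (chi). -/
structure Inp (B X Xk F F' c K K' : Subgroup G) (zl zo : G) : Prop where
  /-- `F X` is abelian -/
  ab : ∀ a ∈ F ⊔ X, ∀ b ∈ F ⊔ X, a * b = b * a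
  le : F' ≤ F ⊔ X
  FX : F ⊓ X ≤ c
  FX' : F' ⊓ X ≤ c
  cF : c ≤ F
  cF' : c ≤ F'
  dec : X ≤ c ⊔ Xk
  XkX : Xk ≤ X
  cXk : c ⊓ Xk = ⊥
  card : Nat.card F' = Nat.card F
  pB : IsPGroup 2 B
  FB : F ≤ B
  nF : B ≤ normalizer (F : Set G)
  nF' : B ≤ normalizer (F' : Set G)
  nXk : B ≤ normalizer (Xk : Set G)
  /-- `K` is transitive on `F #` -/
  tr : ∀ v ∈ F, v ≠ 1 → ∃ e ∈ K, e * zl * e⁻¹ = v
  tr' : ∀ v ∈ F', v ≠ 1 → ∃ e ∈ K', e * zl * e⁻¹ = v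
  Kz : ∀ e ∈ K, e * zo = zo * e
  Kz' : ∀ e ∈ K', e * zo = zo * e
  KX : ∀ e ∈ K, ∀ x ∈ Xk, e * x = x * e
  zoX : zo ∈ F ⊔ X
  /-- `C_Xk(B) ≤ Z_J`, and (W) -/
  no_shift : ∀ x ∈ Xk, (∀ b ∈ B, b * x = x * b) → ∀ g : G, g * (zl * zo) * g⁻¹ = zl * zo * x → x = 1

namespace Inp

variable {B X Xk F F' c K K' : Subgroup G} {zl zo : G} (h : Inp B X Xk F F' c K K' zl zo)

include h

theorem bot' : F' ⊓ Xk = ⊥ := by
  rw [eq_bot_iff, ← h.cXk]
  exact le_inf ((inf_le_inf_left _ h.XkX).trans h.FX') inf_le_right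

theorem bot : F ⊓ Xk = ⊥ := by
  rw [eq_bot_iff, ← h.cXk]
  exact le_inf ((inf_le_inf_left _ h.XkX).trans h.FX) inf_le_right

theorem sup_le' : F ⊔ X ≤ F ⊔ Xk :=
  sup_le le_sup_left (h.dec.trans (sup_le (h.cF.trans le_sup_left) le_sup_right))

theorem exists_x [Finite G] {v : G} (hv : v ∈ F) : ∃ x ∈ Xk, v * x ∈ F' := by
  have h1 : Nat.card ↥(F ⊔ Xk) * Nat.card ↥(F ⊓ Xk) = Nat.card F * Nat.card Xk :=
    card_sup_comm fun a ha b hb => h.ab a (mem_sup_left ha) b (mem_sup_right (h.XkX hb))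
  have h2 : Nat.card ↥(F' ⊔ Xk) * Nat.card ↥(F' ⊓ Xk) = Nat.card F' * Nat.card Xk :=
    card_sup_comm fun a ha b hb => h.ab a (h.le ha) b (mem_sup_right (h.XkX hb))
  rw [h.bot, Subgroup.card_bot, mul_one] at h1
  rw [h.bot', Subgroup.card_bot, mul_one, h.card, ← h1] at h2
  have h3 : F' ⊔ Xk = F ⊔ Xk := Subgroup.eq_of_le_of_card_ge (sup_le (h.le.trans h.sup_le') le_sup_right) h2.ge
  have h4 : v ∈ F' ⊔ Xk := by rw [h3]; exact mem_sup_left hv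
  obtain ⟨w, hw, x, hx, e⟩ := mem_sup_comm
    (fun a ha b hb => h.ab a (h.le ha) b (mem_sup_right (h.XkX hb))) h4
  refine ⟨x⁻¹, inv_mem hx, ?_⟩
  rw [e, mul_inv_cancel_right]
  exact hw

theorem step [Finite G] {M N : Subgroup G} (hM : M ≤ F) (hN : N ≤ F')
    (hc : ∀ b ∈ B, ∀ v ∈ M, b * v * b⁻¹ * v⁻¹ ∈ N) : M ≤ F' := by
  intro v hv
  by_contra hn
  obtain ⟨x, hx, hvx⟩ := h.exists_x (hM hv)
  have hxb : ∀ b ∈ B, b * x = x * b := by
    intro b hb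
    have h1 : b * (v * x) * b⁻¹ ∈ F' := (mem_normalizer_iff.1 (h.nF' hb) _).1 hvx
    have h2 : b * v * b⁻¹ * v⁻¹ ∈ F' := hN (hc b hb v hv)
    have h3 : v * (b * x * b⁻¹) ∈ F' := by
      have h4 := mul_mem (inv_mem h2) h1
      have e : (b * v * b⁻¹ * v⁻¹)⁻¹ * (b * (v * x) * b⁻¹) = v * (b * x * b⁻¹) := by group
      rwa [e] at h4
    have h5 : x⁻¹ * (b * x * b⁻¹) ∈ F' ⊓ Xk := by
      refine ⟨?_, Xk.mul_mem (Xk.inv_mem hx) ((mem_normalizer_iff.1 (h.nXk hb) _).1 hx)⟩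
      have h6 := mul_mem (inv_mem hvx) h3
      have e : (v * x)⁻¹ * (v * (b * x * b⁻¹)) = x⁻¹ * (b * x * b⁻¹) := by group
      rwa [e] at h6
    rw [h.bot', mem_bot, inv_mul_eq_one] at h5
    rw [eq_mul_inv_iff_mul_eq] at h5
    exact h5.symm
  have hv1 : v ≠ 1 := by
    rintro rfl
    exact hn (one_mem _)
  have hvx1 : v * x ≠ 1 := by
    intro e
    have e1 : v = x⁻¹ := eq_inv_of_mul_eq_one_left e
    have h1 : v ∈ F ⊓ Xk := ⟨hM hv, by rw [e1]; exact Xk.inv_mem hx⟩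
    rw [h.bot] at h1
    exact hv1 (mem_bot.1 h1)
  obtain ⟨e, he, hee⟩ := h.tr v (hM hv) hv1
  obtain ⟨e', he', hee'⟩ := h.tr' _ hvx hvx1
  have h1 : (e⁻¹ * e') * (zl * zo) * (e⁻¹ * e')⁻¹ = zl * zo * x := by
    have e1 : zl = e⁻¹ * v * e := by rw [← hee]; group
    have e2 : e' * zo * e'⁻¹ = zo := by rw [h.Kz' e' he']; group
    have e3 : e⁻¹ * zo * e = zo := by rw [mul_assoc, ← h.Kz e he]; group
    have e4 : e⁻¹ * x * e = x := by rw [mul_assoc, ← h.KX e he x hx]; group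
    have e5 : zo * x = x * zo := h.ab _ h.zoX _ (mem_sup_right (h.XkX hx))
    calc (e⁻¹ * e') * (zl * zo) * (e⁻¹ * e')⁻¹ = e⁻¹ * (e' * zl * e'⁻¹) * (e' * zo * e'⁻¹) * e := by group
      _ = (e⁻¹ * v * e) * (e⁻¹ * x * e) * (e⁻¹ * zo * e) := by rw [hee', e2]; group
      _ = zl * (x * zo) := by rw [e3, e4, ← e1, mul_assoc]
      _ = zl * zo * x := by rw [← e5, mul_assoc]
  have h2 := h.no_shift x hx hxb _ h1
  rw [h2, mul_one] at hvx
  exact hn hvx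

theorem inv_le [Finite G] : ∀ n : ℕ, ∀ M : Subgroup G, M ≤ F → B ≤ normalizer (M : Set G) → Nat.card M ≤ n →
    M ≤ F' := by
  intro n
  induction n with
  | zero =>
    intro M _ _ hc
    exact absurd hc (by have : 0 < Nat.card M := Nat.card_pos; omega)
  | succ n ih =>
    intro M hM hB hc
    by_cases h0 : M = ⊥
    · rw [h0]; exact bot_le
    have hlt : ⁅M, B⁆ < M :=
      Cfsg.Agent.PLocal.Uniserial.commutator_lt B B M h.pB.isNilpotent le_rfl (hM.trans h.FB) hB h0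
    have hn : B ≤ normalizer ((⁅M, B⁆ : Subgroup G) : Set G) := by
      intro b hb
      have e : cj b ⁅M, B⁆ = ⁅M, B⁆ := by
        show Subgroup.map _ _ = _
        rw [Subgroup.map_commutator]
        have e1 : M.map (MulAut.conj b).toMonoidHom = M := cj_eq_of_mem_normalizer (hB hb)
        have e2 : B.map (MulAut.conj b).toMonoidHom = B := cj_eq_of_mem_normalizer (le_normalizer hb)
        rw [e1, e2]
      rw [mem_normalizer_iff]
      intro y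
      constructor
      · intro hy
        rw [← e]
        exact ⟨y, hy, rfl⟩
      · intro hy
        rw [← e, mem_cj] at hy
        have e3 : b⁻¹ * (b * y * b⁻¹) * b = y := by group
        rwa [e3] at hy
    have hcard : Nat.card ↥⁅M, B⁆ ≤ n := by
      have h1 : Nat.card ↥⁅M, B⁆ < Nat.card M := by
        refine lt_of_le_of_ne (Subgroup.card_le_of_le hlt.le) fun e => hlt.ne ?_
        exact Subgroup.eq_of_le_of_card_ge hlt.le e.ge
      omega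
    have h1 := ih _ (hlt.le.trans hM) hn hcard
    refine h.step hM h1 fun b hb v hv => ?_
    have h2 := inv_mem (commutator_mem_commutator hv hb)
    rw [commutatorElement_def] at h2
    have e : (v * b * v⁻¹ * b⁻¹)⁻¹ = b * v * b⁻¹ * v⁻¹ := by group
    rwa [e] at h2

/-- **(chi)** -/
theorem eq [Finite G] : F' = F :=
  (Subgroup.eq_of_le_of_card_ge (h.inv_le _ F le_rfl h.nF le_rfl) h.card.le).symm

end Inp

end Cfsg.Agent.Omega.OM.Lev.Low.TorusK.Chi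

end

-- merged: Cfsg.Agent.Mrg.Omega.OM.Lev.Low.TorusK.SplitOne
section

section


/-!
# TORUS, `k ≥ 4`: (SPLIT)

* `exists_fix_mod` : fixed points of a 2-group on a quotient;
* `BK.cen_ch` : an element of `B` which centralises the line `W l` centralises `[[N, K], B₀]`;
* `BK.ch_cen` : `[[N, K], B₀] ∩ C(K) = 1`;
* `BK.n4` : **`[N, K]` is a natural module of order 16: `N4 B₀ K [N, K] (W l)`**; `BK.inf_X` : `[N, K] ∩ X = W l`.
-/

set_option autoImplicit false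
set_option linter.unusedSectionVars false

namespace Cfsg.Agent.Omega.OM.Lev.Low.TorusK

open Subgroup Cfsg Cfsg.Agent.ZN Cfsg.Agent.ZN.ChoiceBase
open Cfsg.Agent.Omega.SQ1.Bau (mem_sup_comm card_sup_comm elem_comm elem_sq)
open Cfsg.Agent.Omega.NO3S.Level.Claim (Fm Bl cB mem_cB cB_le)
open Cfsg.Agent.Omega.OM.Lev.Uni (FrL)
open Cfsg.Agent.Omega.OM.Lev.Low.TorusK.PBC
open scoped commutatorElement

universe u

variable {G : Type u} [Group G]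

/-- fixed points of a 2-group on a quotient `M / X` -/
theorem exists_fix_mod [Finite G] {X M P : Subgroup G} (hP : IsPGroup 2 P) (hPX : P ≤ normalizer (X : Set G))
    (hPM : P ≤ normalizer (M : Set G)) (hM : IsPGroup 2 M) (hMX : M ≤ normalizer (X : Set G)) (hne : ¬ M ≤ X) :
    ∃ y ∈ M, y ∉ X ∧ ∀ b ∈ P, b * y * b⁻¹ * y⁻¹ ∈ X := by
  classical
  let N : Subgroup G := normalizer (X : Set G)
  let X' : Subgroup N := X.subgroupOf N
  haveI : X'.Normal := Subgroup.normal_in_normalizer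
  let q : N →* N ⧸ X' := QuotientGroup.mk' X'
  have hq : ∀ x : N, q x = 1 ↔ (x : G) ∈ X := fun x => by
    rw [show q x = (x : N ⧸ X') from rfl, QuotientGroup.eq_one_iff]
    exact mem_subgroupOf
  let Mq := (M.subgroupOf N).map q
  let Pq := (P.subgroupOf N).map q
  have h1 : IsPGroup 2 Mq := IsPGroup.map (hM.comap_subtype) q
  have h2 : IsPGroup 2 Pq := IsPGroup.map (hP.comap_subtype) q
  have h3 : Pq ≤ normalizer (Mq : Set (N ⧸ X')) := by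
    rintro _ ⟨b, hb, rfl⟩
    rw [mem_normalizer_iff_cj]
    apply le_antisymm
    · rintro _ ⟨_, ⟨m, hm, rfl⟩, rfl⟩
      refine ⟨b * m * b⁻¹, ?_, by simp⟩
      exact (mem_normalizer_iff.1 (hPM (mem_subgroupOf.1 hb)) _).1 (mem_subgroupOf.1 hm)
    · rintro _ ⟨m, hm, rfl⟩
      refine mem_cj.2 ⟨b⁻¹ * m * b, ?_, by simp⟩
      have h4 := (mem_normalizer_iff.1 (inv_mem (hPM (mem_subgroupOf.1 hb))) _).1 (mem_subgroupOf.1 hm)
      show (b : G)⁻¹ * m * b ∈ M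
      simpa using h4
  have h4 : Mq ≠ ⊥ := fun e => hne fun m hm => by
    have h5 : q ⟨m, hMX hm⟩ ∈ Mq := ⟨⟨m, hMX hm⟩, hm, rfl⟩
    rw [e, mem_bot, hq] at h5
    exact h5
  have h5 := PLocal.OffenderStep.inf_centralizer_ne_bot Mq Pq h1 h2 h3 h4
  obtain ⟨⟨x, hx⟩, hx1⟩ := (Subgroup.ne_bot_iff_exists_ne_one).1 h5
  obtain ⟨⟨m, hm, rfl⟩, hxP⟩ := mem_inf.1 hx
  refine ⟨m, mem_subgroupOf.1 hm, fun h6 => hx1 (Subtype.ext ((hq m).2 h6)), fun b hb => ?_⟩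
  have hb' : q ⟨b, hPX hb⟩ ∈ Pq := ⟨⟨b, hPX hb⟩, hb, rfl⟩
  have h6 := mem_centralizer_iff.1 hxP _ hb'
  have h7 : q (⟨b, hPX hb⟩ * m * ⟨b, hPX hb⟩⁻¹ * m⁻¹) = 1 := by
    rw [map_mul, map_mul, map_mul, map_inv, map_inv, h6]
    group
  exact (hq _).1 h7

variable {ι : Type} {S B Q V Xn ZJ B0 X M0 Y0 : Subgroup G} {L W Z C A : ι → Subgroup G} {z : G}
  {l : ι} {K N N1 N0 : Subgroup G}

namespace TK

variable (h : TK S B Q V Xn ZJ B0 X M0 Y0 L W Z C A z)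
include h

theorem BW [Finite G] {b : G} (hb : b ∈ B) (l : ι) : cj b (W l) = W l :=
  cj_eq_of_mem_normalizer (mem_normalizer_of_cj_le (by
    rintro _ ⟨w, hw, rfl⟩
    exact (h.fr.blk l).BV hb hw))

theorem BX' [Finite G] : B ≤ normalizer (X : Set G) := h.BS.trans h.SX

theorem BB0 [Finite G] : B ≤ normalizer (B0 : Set G) := h.BS.trans h.SB0

theorem twoB : IsPGroup 2 B := h.two.to_le h.BS

end TK

namespace BK

theorem N0X [Finite G] (h : TK S B Q V Xn ZJ B0 X M0 Y0 L W Z C A z) (k : BK B B0 X M0 Y0 W l K N N1 N0) {n : G}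
    (hn : n ∈ N0) : n ∈ X ⊓ centralizer (K : Set G) := by
  refine mem_inf.2 ⟨?_, mem_centralizer_iff.2 fun g hg => k.pb.N0c g hg n hn⟩
  rw [← h.zB]
  exact (BlOf.line_iff k.pb (k.pb.N1N (k.pb.N01 hn))).1 (k.pb.N01 hn)

theorem N1X [Finite G] (h : TK S B Q V Xn ZJ B0 X M0 Y0 L W Z C A z) (k : BK B B0 X M0 Y0 W l K N N1 N0) {n : G}
    (hn : n ∈ N) : n ∈ N1 ↔ n ∈ X := by
  rw [← h.zB]
  exact BlOf.line_iff k.pb hn

theorem split1 [Finite G] (h : TK S B Q V Xn ZJ B0 X M0 Y0 L W Z C A z) (k : BK B B0 X M0 Y0 W l K N N1 N0) {n : G}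
    (hn : n ∈ N1) : ∃ w ∈ W l, ∃ n0 ∈ N0, n = w * n0 := by
  rw [k.N1_eq (h.cardW l)] at hn
  exact mem_sup_comm (fun a ha b hb => k.pb.comm (k.pb.N1N (k.WN ha)) (k.pb.N1N (k.pb.N01 hb))) hn

/-- `N₁ ∩ C(K) = N₀` -/
theorem mem_N0 [Finite G] (h : TK S B Q V Xn ZJ B0 X M0 Y0 L W Z C A z) (k : BK B B0 X M0 Y0 W l K N N1 N0) {n : G}
    (hn : n ∈ N1) (hc : ∀ g ∈ K, g * n = n * g) : n ∈ N0 := by
  obtain ⟨w, hw, n0, hn0, rfl⟩ := k.split1 h hn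
  have h1 : w = 1 := k.W_cen hw fun g hg => by
    have h2 := hc g hg
    have h3 := k.pb.N0c g hg n0 hn0
    have h4 : g * w * n0 = w * g * n0 := by
      calc g * w * n0 = g * (w * n0) := by group
        _ = (w * n0) * g := h2
        _ = w * (n0 * g) := by group
        _ = w * (g * n0) := by rw [h3]
        _ = _ := by group
    exact mul_right_cancel h4
  rw [h1, one_mul]
  exact hn0

/-- an element of `B` centralising the line `W l` centralises `[[N, K], B₀]` -/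
theorem cen_ch [Finite G] (h : TK S B Q V Xn ZJ B0 X M0 Y0 L W Z C A z) (k : BK B B0 X M0 Y0 W l K N N1 N0) {b : G}
    (hb : b ∈ B) (hbW : ∀ w ∈ W l, b * w = w * b) : ∀ x ∈ (⁅⁅N, K⁆, B0⁆ : Subgroup G), b * x = x * b := by
  set V' : Subgroup G := ⁅N, K⁆ with hV'
  have hVB : V' ≤ B0 := k.VB0
  have hVN : V' ≤ N := k.pb.VN
  have k' := k.cj h (h.BS hb) (h.BW hb l)
  obtain ⟨hu, hc⟩ := uni' h k k'
  have ecj : ⁅ChoiceBase.cj b N, ChoiceBase.cj b K⁆ = ChoiceBase.cj b V' := by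
    rw [hV']; exact (Subgroup.map_commutator _ _ _).symm
  rw [ecj] at hu hc
  have hbB0 := h.BB0 hb
  have hbX := h.BX' hb
  have hcX : ∀ a ∈ V', ∀ x ∈ X, a * x = x * a := fun a ha x hx => h.cX (hVB ha) hx
  -- `b` acts on `V' X`
  have hM : ∀ v ∈ V', ∃ u ∈ V', ∃ x ∈ X, b * v * b⁻¹ = u * x := fun v hv =>
    mem_sup_comm hcX (hu (cj_mem hv))
  have hXK : ∀ x ∈ X ⊓ centralizer (K : Set G), b * x * b⁻¹ ∈ X ⊓ centralizer (K : Set G) := fun x hx =>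
    (mem_normalizer_iff.1 (k.BX hb) x).1 hx
  -- (F3)
  have F3 : ∀ y ∈ N1, b * y * b⁻¹ * y⁻¹ ∈ X ⊓ centralizer (K : Set G) := by
    intro y hy
    obtain ⟨w, hw, n, hn, rfl⟩ := k.split1 h hy
    have hnX := k.N0X h hn
    have h1 := mul_mem (hXK n hnX) (inv_mem hnX)
    have e : b * (w * n) * b⁻¹ * (w * n)⁻¹ = b * n * b⁻¹ * n⁻¹ := by
      have h2 : w * (b * n * b⁻¹ * n⁻¹) = (b * n * b⁻¹ * n⁻¹) * w := h.Xc (h.WX l hw) h1.1
      calc b * (w * n) * b⁻¹ * (w * n)⁻¹ = (b * w) * n * b⁻¹ * n⁻¹ * w⁻¹ := by group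
        _ = (w * b) * n * b⁻¹ * n⁻¹ * w⁻¹ := by rw [hbW w hw]
        _ = w * (b * n * b⁻¹ * n⁻¹) * w⁻¹ := by group
        _ = (b * n * b⁻¹ * n⁻¹) * w * w⁻¹ := by rw [h2]
        _ = _ := by group
    rw [e]
    exact h1
  -- `[a, u x] = [a, u]`
  have F5 : ∀ a ∈ B0, ∀ u, ∀ x ∈ X, a * (u * x) * a⁻¹ * (u * x)⁻¹ = a * u * a⁻¹ * u⁻¹ := by
    intro a ha u x hx
    have h1 := h.cX ha hx
    calc a * (u * x) * a⁻¹ * (u * x)⁻¹ = a * u * (x * a⁻¹) * x⁻¹ * u⁻¹ := by group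
      _ = a * u * (a⁻¹ * (a * x) * a⁻¹) * x⁻¹ * u⁻¹ := by group
      _ = a * u * (a⁻¹ * (x * a) * a⁻¹) * x⁻¹ * u⁻¹ := by rw [h1]
      _ = _ := by group
  -- the element `y`
  have hXV : ¬ V' ⊔ X ≤ X := by
    intro hle
    obtain ⟨v, hv, hv1⟩ := k.pb.exists_v
    obtain ⟨u, hu', n, hn, rfl⟩ := k.pb.exists_V hv
    exact hv1 (mul_mem ((k.N1X h (hVN hu')).2 (hle (mem_sup_left hu'))) (k.pb.N01 hn))
  have hX2 : IsPGroup 2 B0 := k.pb.Bp
  have hle0 : V' ⊔ X ≤ B0 := sup_le hVB h.XB0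
  have hPX : zpowers b ≤ normalizer (X : Set G) := by rw [zpowers_le]; exact hbX
  have hPM : zpowers b ≤ normalizer ((V' ⊔ X : Subgroup G) : Set G) := by
    rw [zpowers_le]
    refine mem_normalizer_of_cj_le ?_
    rw [show ChoiceBase.cj b (V' ⊔ X) = ChoiceBase.cj b V' ⊔ ChoiceBase.cj b X from Subgroup.map_sup _ _ _,
      cj_eq_of_mem_normalizer hbX]
    exact sup_le hu le_sup_right
  have hMX : V' ⊔ X ≤ normalizer (X : Set G) := sup_le (fun v hv => mem_normalizer_of_cj_le (by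
    rintro _ ⟨x, hx, rfl⟩
    show v * x * v⁻¹ ∈ X
    rw [hcX v hv x hx, mul_inv_cancel_right]
    exact hx)) le_normalizer
  obtain ⟨y0, hy0, hy0X, hfix⟩ := exists_fix_mod (h.twoB.to_le (by rw [zpowers_le]; exact hb)) hPX hPM
    (hX2.to_le hle0) hMX hXV
  obtain ⟨y, hy, x0, hx0, rfl⟩ := mem_sup_comm hcX hy0
  have hyX : y ∉ X := fun h1 => hy0X (mul_mem h1 hx0)
  have hyN1 : y ∉ N1 := fun h1 => hyX ((k.N1X h (hVN hy)).1 h1)
  -- `b y b⁻¹ = y x₁`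
  obtain ⟨x1, hx1, hyb⟩ : ∃ x1 ∈ X, b * y * b⁻¹ = y * x1 := by
    have h1 := hfix b (mem_zpowers b)
    have hx0' : b * x0 * b⁻¹ ∈ X := (mem_normalizer_iff.1 hbX x0).1 hx0
    refine ⟨y⁻¹ * (b * (y * x0) * b⁻¹ * (y * x0)⁻¹) * y * (x0 * (b * x0 * b⁻¹)⁻¹), ?_, ?_⟩
    · refine mul_mem ?_ (mul_mem hx0 (inv_mem hx0'))
      have h2 := hcX y⁻¹ (inv_mem hy) _ h1
      have e : y⁻¹ * (b * (y * x0) * b⁻¹ * (y * x0)⁻¹) * y = b * (y * x0) * b⁻¹ * (y * x0)⁻¹ := by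
        rw [h2]; group
      rw [e]; exact h1
    · have h2 := hcX y hy x0 hx0
      calc b * y * b⁻¹ = b * (y * x0) * b⁻¹ * (y * x0)⁻¹ * (y * x0) * (b * x0 * b⁻¹)⁻¹ := by group
        _ = _ := by group
  -- (i) `b a b⁻¹ ∈ a C(V')`
  have hpi : ∀ a ∈ B0, ∀ v ∈ V', (b * a * b⁻¹ * a⁻¹) * v = v * (b * a * b⁻¹ * a⁻¹) := by
    intro a ha
    have ha' : b * a * b⁻¹ ∈ B0 := (mem_normalizer_iff.1 hbB0 a).1 ha
    have e1 : b * (a * y * a⁻¹ * y⁻¹) * b⁻¹ = (b * a * b⁻¹) * y * (b * a * b⁻¹)⁻¹ * y⁻¹ := by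
      rw [← F5 _ ha' y x1 hx1, ← hyb]; group
    have h1 := F3 _ (k.pb.quad a ha y (hVN hy))
    rw [e1] at h1
    -- `[a' a⁻¹, y] ∈ X_K`
    have ha'' : b * a * b⁻¹ * a⁻¹ ∈ B0 := mul_mem ha' (inv_mem ha)
    have e2 : (b * a * b⁻¹ * a⁻¹) * y * (b * a * b⁻¹ * a⁻¹)⁻¹ * y⁻¹ =
        (b * a * b⁻¹) * y * (b * a * b⁻¹)⁻¹ * y⁻¹ * (a * y * a⁻¹ * y⁻¹)⁻¹ := by
      have hq : a⁻¹ * y * a⁻¹⁻¹ * y⁻¹ ∈ N1 := k.pb.quad a⁻¹ (inv_mem ha) y (hVN hy)
      have h3 : a * (a⁻¹ * y * a⁻¹⁻¹ * y⁻¹) = (a⁻¹ * y * a⁻¹⁻¹ * y⁻¹) * a := k.pb.N1c a ha _ hq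
      have h4 : (b * a * b⁻¹) * (a⁻¹ * y * a⁻¹⁻¹ * y⁻¹) = (a⁻¹ * y * a⁻¹⁻¹ * y⁻¹) * (b * a * b⁻¹) :=
        k.pb.N1c _ ha' _ hq
      have h5 : a⁻¹ * y * a⁻¹⁻¹ * y⁻¹ = (a * y * a⁻¹ * y⁻¹)⁻¹ := by
        have h6 : a * (a⁻¹ * y * a⁻¹⁻¹ * y⁻¹) * a⁻¹ = a⁻¹ * y * a⁻¹⁻¹ * y⁻¹ := by rw [h3]; group
        rw [← h6]; group
      rw [← h5]
      have hcm : (a⁻¹ * y * a⁻¹⁻¹ * y⁻¹) * ((b * a * b⁻¹) * y * (b * a * b⁻¹)⁻¹ * y⁻¹) =
          ((b * a * b⁻¹) * y * (b * a * b⁻¹)⁻¹ * y⁻¹) * (a⁻¹ * y * a⁻¹⁻¹ * y⁻¹) :=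
        k.pb.comm (k.pb.N1N hq) (k.pb.N1N (k.pb.quad _ ha' y (hVN hy)))
      rw [← hcm]
      calc (b * a * b⁻¹ * a⁻¹) * y * (b * a * b⁻¹ * a⁻¹)⁻¹ * y⁻¹ =
          ((b * a * b⁻¹) * (a⁻¹ * y * a⁻¹⁻¹ * y⁻¹)) * y * (b * a * b⁻¹)⁻¹ * y⁻¹ := by group
        _ = _ := by rw [h4]; group
    have h2 : (b * a * b⁻¹ * a⁻¹) * y * (b * a * b⁻¹ * a⁻¹)⁻¹ * y⁻¹ ∈ N0 := by
      refine k.mem_N0 h (k.pb.quad _ ha'' y (hVN hy)) fun g hg => ?_
      rw [e2]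
      exact mem_centralizer_iff.1 h1.2 g hg
    by_contra hcon
    push Not at hcon
    obtain ⟨v, hv, hne⟩ := hcon
    exact hyN1 (k.pb.cent _ ha'' ⟨v, hVN hv, hne⟩ y (hVN hy) h2)
  -- (ii) `b v b⁻¹ ∈ v X`
  have hvX : ∀ v ∈ V', ∃ x ∈ X, b * v * b⁻¹ = v * x := by
    intro v hv
    obtain ⟨u, hu1, x, hx, e⟩ := hM v hv
    obtain ⟨a, ha, w, hw, hne⟩ := k.pb.exists_b
    have hne' : ∃ v ∈ N, (a : G) * v ≠ v * a := ⟨w, hw, hne⟩
    have ha' : b * a * b⁻¹ ∈ B0 := (mem_normalizer_iff.1 hbB0 a).1 ha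
    have hcon := k.pb.cent a ha hne' (u * v⁻¹) (mul_mem (hVN hu1) (inv_mem (hVN hv))) ?_
    · refine ⟨u * v⁻¹ * x, mul_mem ((k.N1X h (mul_mem (hVN hu1) (inv_mem (hVN hv)))).1 hcon) hx, ?_⟩
      rw [e]
      have h1 : u * v⁻¹ * x = x * (u * v⁻¹) := hcX _ (mul_mem hu1 (inv_mem hv)) x hx
      have h2 : v * (u * v⁻¹) = u := by
        rw [← mul_assoc, k.pb.comm (hVN hv) (hVN hu1), mul_inv_cancel_right]
      calc u * x = (v * (u * v⁻¹)) * x := by rw [h2]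
        _ = _ := by group
    · -- `[a, u v⁻¹] ∈ N₀`
      have h1 := F3 _ (k.pb.quad a ha v (hVN hv))
      have e1 : b * (a * v * a⁻¹ * v⁻¹) * b⁻¹ = a * u * a⁻¹ * u⁻¹ := by
        have h3 : b * (a * v * a⁻¹ * v⁻¹) * b⁻¹ = (b * a * b⁻¹) * (u * x) * (b * a * b⁻¹)⁻¹ * (u * x)⁻¹ := by
          rw [← e]; group
        rw [h3, F5 _ ha' u x hx]
        have h4 := hpi a ha (a * u * a⁻¹) (by
          have := (mem_normalizer_iff.1 (k.pb.LV (k.pb.BL ha)) u).1 hu1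
          exact this)
        have h5 : b * a * b⁻¹ * u * (b * a * b⁻¹)⁻¹ = a * u * a⁻¹ := by
          calc b * a * b⁻¹ * u * (b * a * b⁻¹)⁻¹ = (b * a * b⁻¹ * a⁻¹) * (a * u * a⁻¹) * (b * a * b⁻¹ * a⁻¹)⁻¹ := by group
            _ = (a * u * a⁻¹) * (b * a * b⁻¹ * a⁻¹) * (b * a * b⁻¹ * a⁻¹)⁻¹ := by rw [h4]
            _ = _ := by group
        rw [h5]
      rw [e1] at h1
      have e2 : a * (u * v⁻¹) * a⁻¹ * (u * v⁻¹)⁻¹ = a * u * a⁻¹ * u⁻¹ * (a * v * a⁻¹ * v⁻¹)⁻¹ := by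
        have hav : a * v⁻¹ * a⁻¹ ∈ N := k.pb.Nn a (k.pb.BL ha) _ (inv_mem (hVN hv))
        have h3 : (a * v⁻¹ * a⁻¹) * (v * u⁻¹) = (v * u⁻¹) * (a * v⁻¹ * a⁻¹) :=
          k.pb.comm hav (mul_mem (hVN hv) (inv_mem (hVN hu1)))
        have h4 : v * u⁻¹ = u⁻¹ * v := k.pb.comm (hVN hv) (inv_mem (hVN hu1))
        calc a * (u * v⁻¹) * a⁻¹ * (u * v⁻¹)⁻¹ = (a * u * a⁻¹) * ((a * v⁻¹ * a⁻¹) * (v * u⁻¹)) := by group
          _ = (a * u * a⁻¹) * ((v * u⁻¹) * (a * v⁻¹ * a⁻¹)) := by rw [h3]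
          _ = (a * u * a⁻¹) * ((u⁻¹ * v) * (a * v⁻¹ * a⁻¹)) := by rw [h4]
          _ = _ := by group
      refine k.mem_N0 h (k.pb.quad a ha _ (mul_mem (hVN hu1) (inv_mem (hVN hv)))) fun g hg => ?_
      rw [e2]
      exact mem_centralizer_iff.1 h1.2 g hg
  -- (iii)
  have hle : (⁅V', B0⁆ : Subgroup G) ≤ centralizer {b} := by
    rw [Subgroup.commutator_le]
    intro v hv a ha
    obtain ⟨x, hx, e⟩ := hvX v hv
    have ha' : b * a * b⁻¹ ∈ B0 := (mem_normalizer_iff.1 hbB0 a).1 ha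
    have h1 : b * (a * v * a⁻¹ * v⁻¹) * b⁻¹ = a * v * a⁻¹ * v⁻¹ := by
      have h3 : b * (a * v * a⁻¹ * v⁻¹) * b⁻¹ = (b * a * b⁻¹) * (v * x) * (b * a * b⁻¹)⁻¹ * (v * x)⁻¹ := by
        rw [← e]; group
      rw [h3, F5 _ ha' v x hx]
      have h4 := hpi a ha (a * v * a⁻¹) ((mem_normalizer_iff.1 (k.pb.LV (k.pb.BL ha)) v).1 hv)
      have h5 : b * a * b⁻¹ * v * (b * a * b⁻¹)⁻¹ = a * v * a⁻¹ := by
        calc b * a * b⁻¹ * v * (b * a * b⁻¹)⁻¹ = (b * a * b⁻¹ * a⁻¹) * (a * v * a⁻¹) * (b * a * b⁻¹ * a⁻¹)⁻¹ := by group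
          _ = (a * v * a⁻¹) * (b * a * b⁻¹ * a⁻¹) * (b * a * b⁻¹ * a⁻¹)⁻¹ := by rw [h4]
          _ = _ := by group
      rw [h5]
    have h2 : a * v * a⁻¹ * v⁻¹ ∈ centralizer ({b} : Set G) := by
      rw [mem_centralizer_singleton_iff]
      have h3 := congrArg (fun y => y * b) h1
      simpa [mul_assoc] using h3.symm
    have e2 : ⁅v, a⁆ = (a * v * a⁻¹ * v⁻¹)⁻¹ := by rw [commutatorElement_def]; group
    rw [e2]
    exact inv_mem h2
  intro x hx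
  exact (mem_centralizer_singleton_iff.1 (hle hx)).symm

end BK

end Cfsg.Agent.Omega.OM.Lev.Low.TorusK

end

section


/-!
# TORUS, `k ≥ 4`: (SPLIT), second half

* `BK.cjt` : the conjugates of a block over `W l` with a torus element of a block over `W p`, `p ≠ l`;
* `BK.ch_cen` : **`[[N, K], B₀] ∩ C(K) = 1`**.
-/

set_option autoImplicit false
set_option linter.unusedSectionVars false

namespace Cfsg.Agent.Omega.OM.Lev.Low.TorusK

open Subgroup Cfsg Cfsg.Agent.ZN Cfsg.Agent.ZN.ChoiceBase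
open Cfsg.Agent.Omega.SQ1.Bau (mem_sup_comm card_sup_comm elem_comm elem_sq)
open Cfsg.Agent.Omega.NO3S.Level.Claim (Fm Bl cB mem_cB cB_le)
open Cfsg.Agent.Omega.OM.Lev.Uni (FrL)
open Cfsg.Agent.Omega.OM.Lev.Low.TorusK.PBC
open scoped commutatorElement

universe u

variable {G : Type u} [Group G] {ι : Type} {S B Q V Xn ZJ B0 X M0 Y0 : Subgroup G} {L W Z C A : ι → Subgroup G} {z : G}
  {l : ι} {K N N1 N0 : Subgroup G}

theorem comm_cjj (g : G) (N K : Subgroup G) : ⁅ChoiceBase.cj g N, ChoiceBase.cj g K⁆ = ChoiceBase.cj g ⁅N, K⁆ :=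
  (Subgroup.map_commutator _ _ _).symm

/-- `X = W l C_X(K)` -/
theorem BK.splitX [Finite G] (h : TK S B Q V Xn ZJ B0 X M0 Y0 L W Z C A z) (k : BK B B0 X M0 Y0 W l K N N1 N0) {x : G}
    (hx : x ∈ X) : ∃ w ∈ W l, ∃ c ∈ X, (∀ g ∈ K, g * c = c * g) ∧ x = w * c := by
  have hx' := hx
  rw [← h.zB] at hx'
  obtain ⟨c, hc, hcK, n, hn, rfl⟩ := k.pb.Z_split hx'
  rw [h.zB] at hc
  obtain ⟨w, hw, n0, hn0, rfl⟩ := k.split1 h hn
  have hn0X := k.N0X h hn0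
  refine ⟨w, hw, c * n0, mul_mem hc hn0X.1, fun g hg => ?_, ?_⟩
  · have c1 : Commute g c := hcK g hg
    have c2 : Commute g n0 := k.pb.N0c g hg n0 hn0
    exact (c1.mul_right c2).eq
  · have h1 : c * w = w * c := h.Xc hc (h.WX l hw)
    calc c * (w * n0) = (c * w) * n0 := by group
      _ = (w * c) * n0 := by rw [h1]
      _ = _ := by group

theorem BK.W_inf [Finite G] (h : TK S B Q V Xn ZJ B0 X M0 Y0 L W Z C A z) (k : BK B B0 X M0 Y0 W l K N N1 N0) {p : ι}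
    (hp : p ≠ l) : W p ≤ X ⊓ centralizer (K : Set G) := fun w hw =>
  mem_inf.2 ⟨h.WX p hw, mem_centralizer_iff.2 fun g hg => k.cW p hp w hw g hg⟩

/-- conjugates with a torus element of another block -/
theorem BK.cjt [Finite G] (h : TK S B Q V Xn ZJ B0 X M0 Y0 L W Z C A z) (k : BK B B0 X M0 Y0 W l K N N1 N0) {p : ι}
    (hp : p ≠ l) {K' N' N1' N0' : Subgroup G} (k' : BK B B0 X M0 Y0 W p K' N' N1' N0') {t : G} (ht : t ∈ K')
    (htB : t ∈ normalizer (B0 : Set G)) (htW : ∀ w ∈ W p, t * w * t⁻¹ ∈ W p) :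
    BK B B0 X M0 Y0 W l (ChoiceBase.cj t K) (ChoiceBase.cj t N) (ChoiceBase.cj t N1) (ChoiceBase.cj t N0) ∧
      ChoiceBase.cj t (X ⊓ centralizer (K : Set G)) = X ⊓ centralizer (K : Set G) := by
  have htl : ∀ w ∈ W l, t * w = w * t := fun w hw => k'.cW l (Ne.symm hp) w hw t ht
  have hWl : ChoiceBase.cj t (W l) = W l := cj_eq_of_mem_normalizer (mem_normalizer_of_cj_le (by
    rintro _ ⟨w, hw, rfl⟩
    show t * w * t⁻¹ ∈ W l
    rw [htl w hw, mul_inv_cancel_right]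
    exact hw))
  have hXt : ChoiceBase.cj t X = X := by
    rw [← h.zB, ← zc_cj', cj_eq_of_mem_normalizer htB]
  have hXK : t ∈ normalizer ((X ⊓ centralizer (K : Set G) : Subgroup G) : Set G) := by
    refine mem_normalizer_of_cj_le ?_
    rintro _ ⟨x, hx, rfl⟩
    show t * x * t⁻¹ ∈ X ⊓ centralizer (K : Set G)
    obtain ⟨w, hw, c, hc, hcK, rfl⟩ := k'.splitX h hx.1
    have h1 := k.W_inf h hp
    have h2 : t * (w * c) * t⁻¹ = (t * w * t⁻¹) * w⁻¹ * (w * c) := by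
      have h3 := hcK t ht
      calc t * (w * c) * t⁻¹ = t * w * (c * t⁻¹) := by group
        _ = t * w * (t⁻¹ * (t * c) * t⁻¹) := by group
        _ = t * w * (t⁻¹ * (c * t) * t⁻¹) := by rw [h3]
        _ = _ := by group
    rw [h2]
    exact mul_mem (mul_mem (h1 (htW w hw)) (inv_mem (h1 hw))) hx
  have hXK' := cj_eq_of_mem_normalizer hXK
  have hXKt : X ⊓ centralizer (ChoiceBase.cj t K : Set G) = X ⊓ centralizer (K : Set G) := by
    rw [← hXK', cj_inf, cj_centralizer, hXt]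
  refine ⟨?_, hXK'⟩
  constructor
  · have h1 := pb_cj k.pb t
    rwa [cj_eq_of_mem_normalizer htB] at h1
  · have h1 := cj_mono t k.NY
    rwa [cj_eq_of_mem_normalizer (h.MY (k'.KM ht))] at h1
  · have h1 := cj_mono t k.KM
    rwa [cj_eq_of_mem_normalizer (le_normalizer (k'.KM ht))] at h1
  · rw [← hWl]; exact cj_mono t k.WN
  · rw [← hWl, ← cj_inf, k.WN0]
    exact Subgroup.map_bot _
  · intro q hq w hw x hx
    have h1 : w ∈ X ⊓ centralizer (ChoiceBase.cj t K : Set G) := by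
      rw [hXKt]
      exact k.W_inf h hq hw
    exact mem_centralizer_iff.1 h1.2 x hx
  · rw [hXKt]; exact k.BX
  · obtain ⟨x, hx, hxB, hxW, hxf⟩ := k.tor
    refine ⟨_, cj_mem hx, mul_mem (mul_mem htB hxB) (inv_mem htB), ?_, ?_⟩
    · intro w hw0
      rw [← hWl] at hw0 ⊢
      obtain ⟨w, hw, rfl⟩ := ex_cj hw0
      have e : t * x * t⁻¹ * (t * w * t⁻¹) * (t * x * t⁻¹)⁻¹ = t * (x * w * x⁻¹) * t⁻¹ := by group
      rw [e]
      exact cj_mem (hxW w hw)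
    · intro w hw0 he
      rw [← hWl] at hw0
      obtain ⟨w, hw, rfl⟩ := ex_cj hw0
      have e : t * x * t⁻¹ * (t * w * t⁻¹) * (t * x * t⁻¹)⁻¹ = t * (x * w * x⁻¹) * t⁻¹ := by group
      rw [e] at he
      have h1 := hxf w hw (mul_left_cancel (mul_right_cancel he))
      rw [h1]; group

theorem BK.ch_le [Finite G] (k : BK B B0 X M0 Y0 W l K N N1 N0) : ⁅⁅N, K⁆, B0⁆ ≤ N1 := by
  rw [Subgroup.commutator_le]
  intro v hv b hb
  have h1 := k.pb.quad b hb v (k.pb.VN hv)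
  have e : ⁅v, b⁆ = (b * v * b⁻¹ * v⁻¹)⁻¹ := by rw [commutatorElement_def]; group
  rw [e]
  exact inv_mem h1

theorem BK.ch_B [Finite G] (h : TK S B Q V Xn ZJ B0 X M0 Y0 L W Z C A z) (k : BK B B0 X M0 Y0 W l K N N1 N0) :
    B ≤ normalizer ((⁅⁅N, K⁆, B0⁆ : Subgroup G) : Set G) := by
  intro b hb
  have k' := k.cj h (h.BS hb) (h.BW hb l)
  have h1 := ch_eq h k k'
  rw [comm_cjj] at h1
  have e : ⁅ChoiceBase.cj b ⁅N, K⁆, B0⁆ = ChoiceBase.cj b ⁅⁅N, K⁆, B0⁆ := by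
    rw [← comm_cjj b ⁅N, K⁆ B0, cj_eq_of_mem_normalizer (h.BB0 hb)]
  rw [e] at h1
  rw [mem_normalizer_iff_cj]
  exact h1.symm

/-- **(SPLIT)** -/
theorem BK.ch_cen [Finite G] [Finite ι] (h : TK S B Q V Xn ZJ B0 X M0 Y0 L W Z C A z)
    (k : BK B B0 X M0 Y0 W l K N N1 N0) : ⁅⁅N, K⁆, B0⁆ ⊓ centralizer (K : Set G) = ⊥ := by
  by_contra hne
  set D : Subgroup G := ⁅⁅N, K⁆, B0⁆ ⊓ (X ⊓ centralizer (K : Set G)) with hD
  have hDX : (⁅⁅N, K⁆, B0⁆ : Subgroup G) ≤ X := fun x hx => (k.N1X h (k.pb.N1N (k.ch_le hx))).1 (k.ch_le hx)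
  have hDne : D ≠ ⊥ := fun e => hne (by
    rw [eq_bot_iff, ← e]
    exact le_inf inf_le_left (le_inf (inf_le_left.trans hDX) inf_le_right))
  have hDB : B ≤ normalizer (D : Set G) := fun b hb => by
    rw [mem_normalizer_iff_cj, hD, cj_inf, cj_eq_of_mem_normalizer (k.ch_B h hb), cj_eq_of_mem_normalizer (k.BX hb)]
  have hD2 : IsPGroup 2 D := h.twoB.to_le ((inf_le_left.trans hDX).trans (h.XB0.trans h.B0B))
  have h5 := PLocal.OffenderStep.inf_centralizer_ne_bot D B hD2 h.twoB hDB hDne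
  obtain ⟨⟨c, hc⟩, hc1⟩ := (Subgroup.ne_bot_iff_exists_ne_one).1 h5
  obtain ⟨⟨hcc, hcX, hcK⟩, hcB⟩ := mem_inf.1 hc
  replace hc1 : c ≠ 1 := fun e => hc1 (Subtype.ext e)
  have hcJ : c ∈ ZJ := h.mem_ZJ_of hcX fun b hb => mem_centralizer_iff.1 hcB b hb
  have h1 : ¬ ∀ i, c ∈ C i := fun hall => hc1 (h.fr.C0 c (h.fr.ZJV hcJ) hall)
  push Not at h1
  obtain ⟨p, hp⟩ := h1
  obtain ⟨w, hw, d, hd, hdJ, ec⟩ := h.fr.split_ZJ p hcJ
  have hw1 : w ≠ 1 := fun e => hp (by rw [ec, e, one_mul]; exact hd)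
  have hpl : p ≠ l := by
    rintro rfl
    refine hw1 (k.W_cen (h.ZW p hw) fun g hg => ?_)
    have h2 : d ∈ centralizer (K : Set G) := h.mem_of_C (H := centralizer (K : Set G)) (fun q hq => fun x hx =>
      mem_centralizer_iff.2 fun g hg => k.cW q hq x (h.ZW q hx) g hg) hdJ hd
    have h3 : w = c * d⁻¹ := by rw [ec]; group
    have h4 : w ∈ centralizer (K : Set G) := by rw [h3]; exact mul_mem hcK (inv_mem h2)
    exact mem_centralizer_iff.1 h4 g hg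
  -- the block over `W p`
  obtain ⟨s, hs, hsW⟩ := h.tr l p
  have kp := k.cj h hs hsW
  obtain ⟨t, ht, htB, htW, htf⟩ := kp.tor
  obtain ⟨kt, -⟩ := k.cjt h hpl kp ht htB htW
  -- `t` normalises `[[N, K], B₀]`
  have htn : ChoiceBase.cj t ⁅⁅N, K⁆, B0⁆ = ⁅⁅N, K⁆, B0⁆ := by
    have h2 := ch_eq h k kt
    rw [comm_cjj] at h2
    have e : ⁅ChoiceBase.cj t ⁅N, K⁆, B0⁆ = ChoiceBase.cj t ⁅⁅N, K⁆, B0⁆ := by
      rw [← comm_cjj t ⁅N, K⁆ B0, cj_eq_of_mem_normalizer htB]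
    rw [e] at h2
    exact h2.symm
  have hdK : ∀ g ∈ ChoiceBase.cj s K, g * d = d * g := by
    have h2 : d ∈ centralizer (ChoiceBase.cj s K : Set G) :=
      h.mem_of_C (H := centralizer (ChoiceBase.cj s K : Set G)) (fun q hq => fun x hx =>
        mem_centralizer_iff.2 fun g hg => kp.cW q hq x (h.ZW q hx) g hg) hdJ hd
    exact fun g hg => mem_centralizer_iff.1 h2 g hg
  -- `w₁ = [t, w]`
  have hwW := h.ZW p hw
  have hmem : ∀ {x : G}, x ∈ (⁅⁅N, K⁆, B0⁆ : Subgroup G) → t * x * t⁻¹ ∈ (⁅⁅N, K⁆, B0⁆ : Subgroup G) := fun {x} hx => by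
    have h3 := cj_mem (g := t) hx
    rwa [htn] at h3
  have hw1c : t * w * t⁻¹ * w⁻¹ ∈ (⁅⁅N, K⁆, B0⁆ : Subgroup G) := by
    have h2 := mul_mem (hmem hcc) (inv_mem hcc)
    have h3 := hdK t ht
    have e : t * c * t⁻¹ * c⁻¹ = t * w * t⁻¹ * w⁻¹ := by
      rw [ec]
      calc t * (w * d) * t⁻¹ * (w * d)⁻¹ = t * w * (t⁻¹ * (t * d) * t⁻¹) * d⁻¹ * w⁻¹ := by group
        _ = t * w * (t⁻¹ * (d * t) * t⁻¹) * d⁻¹ * w⁻¹ := by rw [h3]
        _ = _ := by group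
    rwa [e] at h2
  set w1 := t * w * t⁻¹ * w⁻¹ with hw1d
  have hw1W : w1 ∈ W p := mul_mem (htW w hwW) (inv_mem hwW)
  have hw11 : w1 ≠ 1 := fun e => hw1 (htf w hwW (mul_inv_eq_one.1 e))
  -- the transvection
  obtain ⟨b, hb, hbC, u, hu, hbu⟩ := h.exists_t p
  have hbl : ∀ x ∈ W l, b * x = x * b := fun x hx => hbC x (h.fr.WjC p l hpl hx)
  have hcen := k.cen_ch h hb hbl
  have hne' : ¬ ∀ u ∈ W p, b * u = u * b := fun h2 => hbu (h2 u hu)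
  have hZ1 : w1 ∈ Z p := (h.fr.blk p).mem_Z hb hne' hw1W (hcen w1 hw1c)
  have hZ2 : t * w1 * t⁻¹ ∈ Z p := (h.fr.blk p).mem_Z hb hne' (htW w1 hw1W) (hcen _ (hmem hw1c))
  have hne2 : t * w1 * t⁻¹ ≠ 1 := fun e => hw11 (by
    have h3 : w1 = t⁻¹ * (t * w1 * t⁻¹) * t := by group
    rw [h3, e]; group)
  exact hw11 (htf w1 hw1W (h.Z_two p hZ2 hZ1 hne2 hw11))

end Cfsg.Agent.Omega.OM.Lev.Low.TorusK

end

section


/-!
# TORUS, `k ≥ 4`: the module of a block is natural of order 16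

* `BK.ch_W` : `[[N, K], B₀] = W l`; `BK.exists_gen` : `[N, K] = W l × W l^x`;
* `BK.n4` : **`N4 B₀ K [N, K] (W l)`**; `BK.inf_X` : `[N, K] ∩ X = W l`; `BK.inf_N0` : `[N, K] ∩ N₀ = 1`.
-/

set_option autoImplicit false
set_option linter.unusedSectionVars false

namespace Cfsg.Agent.Omega.OM.Lev.Low.TorusK

open Subgroup Cfsg Cfsg.Agent.ZN Cfsg.Agent.ZN.ChoiceBase
open Cfsg.Agent.Omega.SQ1.Bau (mem_sup_comm card_sup_comm elem_comm elem_sq)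
open Cfsg.Agent.Omega.NO3S.Level.Claim (Fm Bl cB mem_cB cB_le)
open Cfsg.Agent.Omega.OM.Lev.Uni (FrL)
open Cfsg.Agent.Omega.OM.Lev.Low.TorusK.PBC
open scoped commutatorElement

universe u

variable {G : Type u} [Group G] {ι : Type} {S B Q V Xn ZJ B0 X M0 Y0 : Subgroup G} {L W Z C A : ι → Subgroup G} {z : G}
  {l : ι} {K N N1 N0 : Subgroup G}

/-- an injective endomorphism of a finite group in the form used below -/
theorem W_comm [Finite G] {W0 : Subgroup G} {t : G} (hab : ∀ a ∈ W0, ∀ b ∈ W0, a * b = b * a)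
    (htW : ∀ w ∈ W0, t * w * t⁻¹ ∈ W0) (htf : ∀ w ∈ W0, t * w * t⁻¹ = w → w = 1) {w : G} (hw : w ∈ W0) :
    ∃ u ∈ W0, w = t * u * t⁻¹ * u⁻¹ := by
  let f : W0 → W0 := fun u => ⟨t * u * t⁻¹ * (u : G)⁻¹, mul_mem (htW u u.2) (inv_mem u.2)⟩
  have hinj : Function.Injective f := by
    intro a b hab'
    have e : t * (a : G) * t⁻¹ * (a : G)⁻¹ = t * (b : G) * t⁻¹ * (b : G)⁻¹ := congrArg Subtype.val hab'
    have h1 := htf ((b : G)⁻¹ * a) (mul_mem (inv_mem b.2) a.2) (by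
      have h2 : t * (b : G) * t⁻¹ * (b : G)⁻¹ = (b : G)⁻¹ * (t * b * t⁻¹) := hab _ (htW b b.2) _ (inv_mem b.2)
      have h3 : t * (a : G) * t⁻¹ * (a : G)⁻¹ = (a : G)⁻¹ * (t * a * t⁻¹) := hab _ (htW a a.2) _ (inv_mem a.2)
      have h4 : (a : G)⁻¹ * (t * a * t⁻¹) = (b : G)⁻¹ * (t * b * t⁻¹) := by rw [← h3, ← h2, e]
      have h5 : t * ((b : G)⁻¹ * a) * t⁻¹ = (t * b * t⁻¹)⁻¹ * (t * a * t⁻¹) := by group
      have h6 : t * (a : G) * t⁻¹ = a * ((b : G)⁻¹ * (t * b * t⁻¹)) := by rw [← h4]; group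
      have h7 : (b : G)⁻¹ * (t * b * t⁻¹) = (t * b * t⁻¹) * (b : G)⁻¹ := (hab _ (htW b b.2) _ (inv_mem b.2)).symm
      have h8 : (a : G) * ((t * b * t⁻¹) * (b : G)⁻¹) = ((t * b * t⁻¹) * (b : G)⁻¹) * a :=
        hab _ a.2 _ (mul_mem (htW b b.2) (inv_mem b.2))
      rw [h5, h6, h7, h8]
      group)
    apply Subtype.ext
    have h9 : (a : G) = b * ((b : G)⁻¹ * a) := by group
    rw [h9, h1, mul_one]
  obtain ⟨u, hu⟩ := (Finite.injective_iff_surjective.1 hinj) ⟨w, hw⟩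
  exact ⟨u, u.2, (congrArg Subtype.val hu).symm⟩

namespace BK

/-- `W l ≤ [[N, K], B₀]` and equality -/
theorem ch_W [Finite G] [Finite ι] (h : TK S B Q V Xn ZJ B0 X M0 Y0 L W Z C A z)
    (k : BK B B0 X M0 Y0 W l K N N1 N0) : ⁅⁅N, K⁆, B0⁆ = W l := by
  have hcen := k.ch_cen h
  have hW : W l ≤ ⁅⁅N, K⁆, B0⁆ := by
    intro w hw
    obtain ⟨t, ht, htB, htW, htf⟩ := k.tor
    obtain ⟨u, hu, rfl⟩ := W_comm (fun a ha b hb => h.Xc (h.WX l ha) (h.WX l hb)) htW htf hw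
    -- `u = y n`, `y ∈ [[N, K], B₀]`
    obtain ⟨v, hv, hv1⟩ := k.pb.exists_v
    obtain ⟨y, hy, n, hn, rfl⟩ := k.pb.exists_V hv
    have hy1 : y ∉ N1 := fun h1 => hv1 (mul_mem h1 (k.pb.N01 hn))
    obtain ⟨b, hb, n0, hn0, e⟩ := k.pb.line (k.pb.VN hy) hy1 (k.WN hu)
    have hc : b * y * b⁻¹ * y⁻¹ ∈ (⁅⁅N, K⁆, B0⁆ : Subgroup G) := by
      have h1 := inv_mem (commutator_mem_commutator hy hb)
      have e1 : (⁅y, b⁆)⁻¹ = b * y * b⁻¹ * y⁻¹ := by rw [commutatorElement_def]; group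
      rwa [e1] at h1
    set c := b * y * b⁻¹ * y⁻¹ with hcd
    have htc : t * c * t⁻¹ ∈ (⁅⁅N, K⁆, B0⁆ : Subgroup G) := by
      have h1 : ChoiceBase.cj t ⁅⁅N, K⁆, B0⁆ = ⁅⁅N, K⁆, B0⁆ := by
        rw [← comm_cjj t ⁅N, K⁆ B0, cj_eq_of_mem_normalizer htB, cj_eq_of_mem_normalizer (k.pb.LV ht)]
      have h2 := cj_mem (g := t) hc
      rwa [h1] at h2
    have h3 := k.pb.N0c t ht n0 hn0
    have e2 : t * u * t⁻¹ * u⁻¹ = t * c * t⁻¹ * c⁻¹ := by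
      rw [e]
      calc t * (c * n0) * t⁻¹ * (c * n0)⁻¹ = t * c * (t⁻¹ * (t * n0) * t⁻¹) * n0⁻¹ * c⁻¹ := by group
        _ = t * c * (t⁻¹ * (n0 * t) * t⁻¹) * n0⁻¹ * c⁻¹ := by rw [h3]
        _ = _ := by group
    rw [e2]
    exact mul_mem htc (inv_mem hc)
  refine le_antisymm ?_ hW
  intro y hy
  obtain ⟨w, hw, n, hn, rfl⟩ := k.split1 h (k.ch_le hy)
  have h1 : n ∈ ⁅⁅N, K⁆, B0⁆ ⊓ centralizer (K : Set G) := by
    refine mem_inf.2 ⟨?_, (k.N0X h hn).2⟩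
    have h2 := mul_mem (inv_mem (hW hw)) hy
    rwa [inv_mul_cancel_left] at h2
  rw [hcen, mem_bot] at h1
  rw [h1, mul_one]
  exact hw

theorem W_le [Finite G] [Finite ι] (h : TK S B Q V Xn ZJ B0 X M0 Y0 L W Z C A z)
    (k : BK B B0 X M0 Y0 W l K N N1 N0) : W l ≤ ⁅N, K⁆ := by
  rw [← k.ch_W h, Subgroup.commutator_le]
  intro v hv b hb
  have h1 := (mem_normalizer_iff.1 (k.pb.LV (k.pb.BL hb)) v⁻¹).1 (inv_mem hv)
  have e : ⁅v, b⁆ = v * (b * v⁻¹ * b⁻¹) := by rw [commutatorElement_def]; group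
  rw [e]
  exact mul_mem hv h1

/-- `[N, K] = W l W l^x` -/
theorem exists_gen [Finite G] [Finite ι] (h : TK S B Q V Xn ZJ B0 X M0 Y0 L W Z C A z)
    (k : BK B B0 X M0 Y0 W l K N N1 N0) {x : G} (hx : x ∈ K) (hm : SQ1.Bau.Mv N1 x) :
    ⁅N, K⁆ = W l ⊔ ChoiceBase.cj x (W l) := by
  have hWV := k.W_le h
  have hcV : ChoiceBase.cj x (W l) ≤ ⁅N, K⁆ := by
    have h1 := cj_mono x hWV
    rwa [cj_eq_of_mem_normalizer (k.pb.LV hx)] at h1
  have hle : W l ⊔ ChoiceBase.cj x (W l) ≤ ⁅N, K⁆ := sup_le hWV hcV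
  refine le_antisymm ?_ hle
  obtain ⟨w, hw, hw1⟩ : ∃ w ∈ W l, w ≠ 1 := by
    obtain ⟨y, hy, hy1⟩ := h.exists_Z l
    exact ⟨y, h.ZW l hy, hy1⟩
  have hcm : ∀ b ∈ B0, ∀ v ∈ (⁅N, K⁆ : Subgroup G), b * v * b⁻¹ * v⁻¹ ∈ W l := by
    intro b hb v hv
    rw [← k.ch_W h]
    have h1 := inv_mem (commutator_mem_commutator hv hb)
    have e1 : (⁅v, b⁆)⁻¹ = b * v * b⁻¹ * v⁻¹ := by rw [commutatorElement_def]; group
    rwa [e1] at h1
  have hn : K ≤ normalizer ((W l ⊔ ChoiceBase.cj x (W l) : Subgroup G) : Set G) := by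
    refine k.pb.gen x hx hm _ (fun b hb => mem_normalizer_of_cj_le ?_) fun b hb => mem_normalizer_of_cj_le ?_
    · rintro _ ⟨v, hv, rfl⟩
      show b * v * b⁻¹ ∈ _
      have h1 := mul_mem (mem_sup_left (hcm b hb v (hle hv)) : _ ∈ W l ⊔ ChoiceBase.cj x (W l)) hv
      rwa [inv_mul_cancel_right] at h1
    · rintro _ ⟨v, hv, rfl⟩
      show x * b * x⁻¹ * v * (x * b * x⁻¹)⁻¹ ∈ _
      have hv' : x⁻¹ * v * x ∈ (⁅N, K⁆ : Subgroup G) := by
        have := (mem_normalizer_iff.1 (k.pb.LV (inv_mem hx)) v).1 (hle hv)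
        rwa [inv_inv] at this
      have h1 := hcm b hb _ hv'
      have h2 : x * b * x⁻¹ * v * (x * b * x⁻¹)⁻¹ * v⁻¹ ∈ ChoiceBase.cj x (W l) := by
        have e : x * b * x⁻¹ * v * (x * b * x⁻¹)⁻¹ * v⁻¹ =
            x * (b * (x⁻¹ * v * x) * b⁻¹ * (x⁻¹ * v * x)⁻¹) * x⁻¹ := by group
        rw [e]
        exact cj_mem h1
      have h3 := mul_mem (mem_sup_right h2 : _ ∈ W l ⊔ ChoiceBase.cj x (W l)) hv
      rwa [inv_mul_cancel_right] at h3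
  exact k.le_of hn hw hw1 (mem_sup_left hw)

theorem dir' [Finite G] (k : BK B B0 X M0 Y0 W l K N N1 N0) {x : G} (hx : x ∈ K) (hm : SQ1.Bau.Mv N1 x) {w : G}
    (hw : w ∈ W l) (h1 : x * w * x⁻¹ ∈ N1) : w = 1 := by
  have h2 := k.pb.opp x hx hm w (k.WN hw) h1
  have h3 := k.pb.pl.W0n x⁻¹ (inv_mem hx) _ h2
  have e : x⁻¹ * (x * w * x⁻¹) * x⁻¹⁻¹ = w := by group
  rw [e] at h3
  have h4 : w ∈ W l ⊓ N0 := ⟨hw, h3⟩
  rwa [k.WN0, mem_bot] at h4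

/-- `[N, K] ∩ N₁ = W l` -/
theorem inf_N1 [Finite G] [Finite ι] (h : TK S B Q V Xn ZJ B0 X M0 Y0 L W Z C A z)
    (k : BK B B0 X M0 Y0 W l K N N1 N0) {v : G} (hv : v ∈ (⁅N, K⁆ : Subgroup G)) (hv1 : v ∈ N1) : v ∈ W l := by
  obtain ⟨x, hx, hm⟩ := k.pb.mv
  rw [k.exists_gen h hx hm] at hv
  have hcV : ChoiceBase.cj x (W l) ≤ N := by
    rintro _ ⟨w, hw, rfl⟩
    exact k.pb.Nn x hx w (k.pb.N1N (k.WN hw))
  obtain ⟨a, ha, b, hb, rfl⟩ := mem_sup_comm (fun a ha b hb => k.pb.comm (k.pb.N1N (k.WN ha)) (hcV hb)) hv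
  obtain ⟨w, hw, rfl⟩ := ex_cj hb
  have h1 : x * w * x⁻¹ ∈ N1 := by
    have h2 := mul_mem (inv_mem (k.WN ha)) hv1
    rwa [inv_mul_cancel_left] at h2
  have h2 : w = 1 := k.dir' hx hm hw h1
  rw [h2, mul_one, mul_inv_cancel, mul_one]
  exact ha

/-- `[N, K] ∩ X = W l` -/
theorem inf_X [Finite G] [Finite ι] (h : TK S B Q V Xn ZJ B0 X M0 Y0 L W Z C A z)
    (k : BK B B0 X M0 Y0 W l K N N1 N0) : ⁅N, K⁆ ⊓ X = W l := by
  apply le_antisymm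
  · rintro v ⟨hv, hvX⟩
    exact k.inf_N1 h hv ((k.N1X h (k.pb.VN hv)).2 hvX)
  · exact le_inf (k.W_le h) (h.WX l)

theorem card16 [Finite G] [Finite ι] (h : TK S B Q V Xn ZJ B0 X M0 Y0 L W Z C A z)
    (k : BK B B0 X M0 Y0 W l K N N1 N0) : Nat.card (⁅N, K⁆ : Subgroup G) = 16 := by
  obtain ⟨x, hx, hm⟩ := k.pb.mv
  rw [k.exists_gen h hx hm]
  have hcV : ChoiceBase.cj x (W l) ≤ N := by
    rintro _ ⟨w, hw, rfl⟩
    exact k.pb.Nn x hx w (k.pb.N1N (k.WN hw))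
  have h1 := card_sup_comm (A := W l) (B := ChoiceBase.cj x (W l)) fun a ha b hb =>
    k.pb.comm (k.pb.N1N (k.WN ha)) (hcV hb)
  have h2 : W l ⊓ ChoiceBase.cj x (W l) = ⊥ := by
    rw [eq_bot_iff]
    rintro v ⟨hv, hv'⟩
    obtain ⟨w, hw, rfl⟩ := ex_cj hv'
    rw [k.dir' hx hm hw (k.WN hv), mul_one, mul_inv_cancel]
    exact one_mem _
  rw [h2, Subgroup.card_bot, mul_one, card_cj, h.cardW l] at h1
  exact h1

theorem mv_iff [Finite G] [Finite ι] (h : TK S B Q V Xn ZJ B0 X M0 Y0 L W Z C A z)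
    (k : BK B B0 X M0 Y0 W l K N N1 N0) {x : G} (hx : x ∈ K) : SQ1.Bau.Mv (W l) x ↔ SQ1.Bau.Mv N1 x := by
  constructor
  · rintro ⟨w, hw, hw'⟩
    refine ⟨w, k.WN hw, fun h1 => hw' (k.inf_N1 h ?_ h1)⟩
    exact (mem_normalizer_iff.1 (k.pb.LV hx) w).1 (k.W_le h hw)
  · rintro ⟨v, hv, hv'⟩
    obtain ⟨w, hw, n, hn, rfl⟩ := k.split1 h hv
    refine ⟨w, hw, fun h1 => hv' ?_⟩
    have h3 := k.pb.N0c x hx n hn
    have e : x * (w * n) * x⁻¹ = (x * w * x⁻¹) * n := by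
      calc x * (w * n) * x⁻¹ = x * w * (x⁻¹ * (x * n) * x⁻¹) := by group
        _ = x * w * (x⁻¹ * (n * x) * x⁻¹) := by rw [h3]
        _ = _ := by group
    rw [e]
    exact mul_mem (k.WN h1) (k.pb.N01 hn)

/-- **`[N, K]` is natural of order 16.** -/
theorem n4 [Finite G] [Finite ι] (h : TK S B Q V Xn ZJ B0 X M0 Y0 L W Z C A z)
    (k : BK B B0 X M0 Y0 W l K N N1 N0) : N4 B0 K ⁅N, K⁆ (W l) := by
  have hVN : (⁅N, K⁆ : Subgroup G) ≤ N := k.pb.VN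
  have hcB : B0 ⊓ centralizer ((⁅N, K⁆ : Subgroup G) : Set G) = B0 ⊓ centralizer (N : Set G) := by
    ext b
    rw [mem_inf, mem_inf, mem_centralizer_iff, mem_centralizer_iff]
    refine and_congr_right fun hb => ⟨fun h1 v hv => ?_, fun h1 v hv => h1 v (hVN hv)⟩
    obtain ⟨u, hu, n, hn, rfl⟩ := k.pb.exists_V hv
    have c1 : Commute u b := h1 u hu
    have c2 : Commute n b := (k.pb.N0c b (k.pb.BL hb) n hn).symm
    exact (c1.mul_left c2).eq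
  refine
    { el := Cfsg.Agent.PLocal.ThompsonJ.isElementaryAbelian_mono k.pb.el hVN
      card := k.card16 h
      V1V := k.W_le h
      card1 := h.cardW l
      BK := k.pb.BL
      KV := k.pb.LV
      c1 := fun b hb v hv => h.cX hb (h.WX l hv)
      quad := ?_
      cent := ?_
      cardB := by rw [hcB]; exact k.pb.cardB
      cor := ?_
      opp := ?_
      mv := ?_
      gen := fun x hx hm => k.pb.gen x hx ((k.mv_iff h hx).1 hm)
      tor := ?_ }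
  · intro b hb v hv
    refine k.inf_N1 h (mul_mem ((mem_normalizer_iff.1 (k.pb.LV (k.pb.BL hb)) v).1 hv) (inv_mem hv)) ?_
    exact k.pb.quad b hb v (hVN hv)
  · rintro b hb ⟨v, hv, hne⟩ u hu hc
    refine k.inf_N1 h hu (k.pb.cent b hb ⟨v, hVN hv, hne⟩ u (hVN hu) ?_)
    rw [hc, mul_inv_cancel_right, mul_inv_cancel]
    exact one_mem _
  · intro g hg
    rw [hcB]
    refine mem_normalizer_of_cj_le ?_
    rintro _ ⟨x, ⟨hx, hxc⟩, rfl⟩
    refine ⟨k.pb.cor g hg x hx fun v hv => (mem_centralizer_iff.1 hxc v hv).symm, mem_centralizer_iff.2 fun v hv => ?_⟩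
    have hv' : g⁻¹ * v * g ∈ N := by
      have := k.pb.Nn g⁻¹ (inv_mem hg) v hv
      rwa [inv_inv] at this
    have h1 := mem_centralizer_iff.1 hxc _ hv'
    show v * (g * x * g⁻¹) = g * x * g⁻¹ * v
    calc v * (g * x * g⁻¹) = g * ((g⁻¹ * v * g) * x) * g⁻¹ := by group
      _ = g * (x * (g⁻¹ * v * g)) * g⁻¹ := by rw [h1]
      _ = _ := by group
  · intro x hx hm v hv hv'
    exact k.dir' hx ((k.mv_iff h hx).1 hm) hv (k.WN hv')
  · obtain ⟨x, hx, hm⟩ := k.pb.mv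
    exact ⟨x, hx, (k.mv_iff h hx).2 hm⟩
  · intro y hy hy1 y' hy' hy1'
    have hN0 : ∀ w ∈ W l, w ≠ 1 → w ∉ N0 := fun w hw hw1 hwN => hw1 (by
      have h4 : w ∈ W l ⊓ N0 := ⟨hw, hwN⟩
      rwa [k.WN0, mem_bot] at h4)
    obtain ⟨g, hg, hgB, hgN⟩ := k.pb.tor y (k.WN hy) (hN0 y hy hy1) y' (k.WN hy') (hN0 y' hy' hy1')
    refine ⟨g, hg, hgB, ?_⟩
    have hgy : g * y * g⁻¹ ∈ W l := by
      have h1 : g * y * g⁻¹ ∈ (⁅N, K⁆ : Subgroup G) := (mem_normalizer_iff.1 (k.pb.LV hg) y).1 (k.W_le h hy)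
      have h2 : g * y * g⁻¹ ∈ X := by
        have h3 : ChoiceBase.cj g X = X := by rw [← h.zB, ← zc_cj', cj_eq_of_mem_normalizer hgB]
        rw [← h3]
        exact cj_mem (h.WX l hy)
      rw [← k.inf_X h]
      exact ⟨h1, h2⟩
    by_contra hne
    exact hN0 _ (mul_mem hgy (inv_mem hy')) (fun e => hne (mul_inv_eq_one.1 e)) hgN

end BK

end Cfsg.Agent.Omega.OM.Lev.Low.TorusK

end

section


/-!
# TORUS, `k ≥ 3` (helper607 #23961): the family of blocks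

* `NA B K N` : `B` normalises `[N, K]`, and `B` acts on `N` by conjugation on the image of `K`;
* `NA.cj`, `NA.lines`;
* `Fam` : blocks `K i` over all lines `W i`, with (chi);
* `exists_fam` : a block gives a family (`Chi.Inp.eq`).
-/

set_option autoImplicit false
set_option linter.unusedSectionVars false

namespace Cfsg.Agent.Omega.OM.Lev.Low.TorusK

open Subgroup Cfsg Cfsg.Agent.ZN Cfsg.Agent.ZN.ChoiceBase
open Cfsg.Agent.Omega.SQ1.Bau (mem_sup_comm card_sup_comm elem_comm elem_sq)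
open Cfsg.Agent.Omega.NO3S.Level.Claim (Fm Bl cB mem_cB cB_le)
open Cfsg.Agent.Omega.OM.Lev.Uni (FrL)
open Cfsg.Agent.Omega.OM.Lev.Low.TorusK.PBC

universe u

variable {G : Type u} [Group G]

/-- `B` normalises the module and permutes the action. -/
structure NA (B K N : Subgroup G) : Prop where
  nF : B ≤ normalizer ((⁅N, K⁆ : Subgroup G) : Set G)
  act : ∀ b ∈ B, ∀ k ∈ K, ∃ k' ∈ K, ∀ v ∈ N, b * k * b⁻¹ * v * (b * k * b⁻¹)⁻¹ = k' * v * k'⁻¹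

theorem NA.cj {B K N : Subgroup G} (a : NA B K N) {s : G} (hs : s ∈ normalizer (B : Set G)) :
    NA B (ChoiceBase.cj s K) (ChoiceBase.cj s N) where
  nF := by
    rw [comm_cjj]
    intro b hb
    rw [mem_normalizer_iff_cj]
    have hb' : s⁻¹ * b * s ∈ B := by
      have := (mem_normalizer_iff.1 (inv_mem hs) b).1 hb
      simpa using this
    have h2 := cj_eq_of_mem_normalizer (a.nF hb')
    rw [cj_cj, show b * s = s * (s⁻¹ * b * s) by group, ← cj_cj, h2]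
  act := by
    intro b hb k hk0
    obtain ⟨k, hk, rfl⟩ := ex_cj hk0
    have hb' : s⁻¹ * b * s ∈ B := by
      have := (mem_normalizer_iff.1 (inv_mem hs) b).1 hb
      simpa using this
    obtain ⟨k', hk', h1⟩ := a.act _ hb' k hk
    refine ⟨s * k' * s⁻¹, cj_mem hk', ?_⟩
    intro v hv0
    obtain ⟨v, hv, rfl⟩ := ex_cj hv0
    have h2 := h1 v hv
    calc b * (s * k * s⁻¹) * b⁻¹ * (s * v * s⁻¹) * (b * (s * k * s⁻¹) * b⁻¹)⁻¹
        = s * (s⁻¹ * b * s * k * (s⁻¹ * b * s)⁻¹ * v * (s⁻¹ * b * s * k * (s⁻¹ * b * s)⁻¹)⁻¹) * s⁻¹ := by group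
      _ = s * (k' * v * k'⁻¹) * s⁻¹ := by rw [h2]
      _ = s * k' * s⁻¹ * (s * v * s⁻¹) * (s * k' * s⁻¹)⁻¹ := by group

variable {ι : Type} {S B Q V Xn ZJ B0 X M0 Y0 : Subgroup G} {L W Z C A : ι → Subgroup G} {z : G}
  {l : ι} {K N N1 N0 : Subgroup G}

/-- `B` permutes the lines. -/
theorem NA.lines [Finite G] (h : TK S B Q V Xn ZJ B0 X M0 Y0 L W Z C A z) (k : BK B B0 X M0 Y0 W l K N N1 N0)
    (a : NA B K N) : ∀ b ∈ B, ∀ g ∈ K, ∃ g' ∈ K, ChoiceBase.cj b (ChoiceBase.cj g (W l)) = ChoiceBase.cj g' (W l) := by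
  intro b hb g hg
  obtain ⟨g', hg', h1⟩ := a.act b hb g hg
  refine ⟨g', hg', ?_⟩
  have h2 : ∀ w ∈ W l, w ∈ N := fun w hw => k.pb.N1N (k.WN hw)
  have h3 : ChoiceBase.cj (b * g * b⁻¹) (W l) = ChoiceBase.cj g' (W l) := by
    ext x
    constructor
    · intro hx
      obtain ⟨w, hw, rfl⟩ := ex_cj hx
      rw [h1 w (h2 w hw)]
      exact cj_mem hw
    · intro hx
      obtain ⟨w, hw, rfl⟩ := ex_cj hx
      rw [← h1 w (h2 w hw)]
      exact cj_mem hw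
  rw [← h3, cj_cj]
  conv_rhs => rw [← h.BW hb l, cj_cj]
  congr 1
  group

/-- `K` is transitive on the non-trivial elements of the module. -/
theorem BK.tr [Finite G] [Finite ι] (h : TK S B Q V Xn ZJ B0 X M0 Y0 L W Z C A z)
    (k : BK B B0 X M0 Y0 W l K N N1 N0) {zl : G} (hz : zl ∈ W l) (hz1 : zl ≠ 1) :
    ∀ v ∈ (⁅N, K⁆ : Subgroup G), v ≠ 1 → ∃ e ∈ K, e * zl * e⁻¹ = v := by
  intro v hv hv1
  have n4 := k.n4 h
  have m4 := (SigN4.toSig n4).toM4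
  by_cases hvW : v ∈ W l
  · obtain ⟨e, he, -, h1⟩ := n4.tor zl hz hz1 v hvW hv1
    exact ⟨e, he, h1⟩
  · obtain ⟨x, hx, hm⟩ := n4.mv
    have hne : ChoiceBase.cj x (W l) ≠ W l := by
      intro e
      obtain ⟨w, hw, hw'⟩ := hm
      exact hw' (e ▸ cj_mem hw)
    obtain ⟨p, hp, q, hq, e1⟩ := m4.compl hx hne hv
    have hqn : q ∉ W l := by
      intro h1
      exact hvW (e1 ▸ mul_mem hp h1)
    have hqV : q ∈ (⁅N, K⁆ : Subgroup G) := m4.lineV hx hq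
    obtain ⟨b, hb, e2⟩ := m4.full hqV hqn hp
    obtain ⟨q0, hq0, e3⟩ := ex_cj hq
    have hq01 : q0 ≠ 1 := by
      rintro rfl
      apply hqn
      rw [e3]
      simp
    obtain ⟨e, he, -, e4⟩ := n4.tor zl hz hz1 q0 hq0 hq01
    refine ⟨b * x * e, mul_mem (mul_mem (n4.BK hb) hx) he, ?_⟩
    have e5 : b * x * e * zl * (b * x * e)⁻¹ = b * (x * (e * zl * e⁻¹) * x⁻¹) * b⁻¹ := by group
    rw [e5, e4, ← e3, e1, ← e2]
    rfl

/-- **(chi)**: two blocks over the same line have the same module. -/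
theorem BK.chi [Finite G] [Finite ι] (h : TK S B Q V Xn ZJ B0 X M0 Y0 L W Z C A z)
    (k : BK B B0 X M0 Y0 W l K N N1 N0) (a : NA B K N) {K' N' N1' N0' : Subgroup G}
    (k' : BK B B0 X M0 Y0 W l K' N' N1' N0') (a' : NA B K' N') : ⁅N', K'⁆ = ⁅N, K⁆ := by
  obtain ⟨zl, hzl, zo, hzo, -, ez⟩ := h.fr.split_ZJ l h.zJ
  have hzl1 : zl ≠ 1 := fun e => h.zC l (by rw [ez, e, one_mul]; exact hzo)
  have hFX : ∀ x ∈ (⁅N, K⁆ : Subgroup G), ∀ y ∈ X, x * y = y * x := fun x hx y hy => h.cX (k.VB0 hx) hy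
  have hFF : ∀ x ∈ (⁅N, K⁆ : Subgroup G), ∀ y ∈ (⁅N, K⁆ : Subgroup G), x * y = y * x := fun x hx y hy =>
    k.pb.comm (k.pb.VN hx) (k.pb.VN hy)
  have hzoJ : zo ∈ ZJ := by
    have : zo = zl⁻¹ * z := by rw [ez]; group
    rw [this]
    exact mul_mem (inv_mem (h.fr.Z_le l hzl)) h.zJ
  have hcen : ∀ {K' N' N1' N0' : Subgroup G}, BK B B0 X M0 Y0 W l K' N' N1' N0' → ∀ e ∈ K', e * zo = zo * e := by
    intro K' N' N1' N0' k' e he
    have h1 : zo ∈ centralizer (K' : Set G) := h.mem_of_C (l := l) (fun p hp => (h.ZW p).trans fun w hw =>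
      mem_centralizer_iff.2 fun g hg => k'.cW p hp w hw g hg) hzoJ hzo
    exact mem_centralizer_iff.1 h1 e he
  have hzlW : zl ∈ W l := h.ZW l hzl
  have inp : Chi.Inp B X (X ⊓ centralizer (K : Set G)) ⁅N, K⁆ ⁅N', K'⁆ (W l) K K' zl zo :=
    { ab := by
        intro x hx y hy
        obtain ⟨x1, hx1, x2, hx2, rfl⟩ := mem_sup_comm hFX hx
        obtain ⟨y1, hy1, y2, hy2, rfl⟩ := mem_sup_comm hFX hy
        have c1 : Commute x1 y1 := hFF x1 hx1 y1 hy1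
        have c2 : Commute x1 y2 := hFX x1 hx1 y2 hy2
        have c3 : Commute x2 y1 := (hFX y1 hy1 x2 hx2).symm
        have c4 : Commute x2 y2 := h.Xc hx2 hy2
        exact ((c1.mul_right c2).mul_left (c3.mul_right c4))
      le := (uni' h k k').1
      FX := (k.inf_X h).le
      FX' := (k'.inf_X h).le
      cF := k.W_le h
      cF' := k'.W_le h
      dec := by
        intro x hx
        obtain ⟨w, hw, c, hc, hcK, rfl⟩ := k.splitX h hx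
        exact mul_mem (mem_sup_left hw) (mem_sup_right (mem_inf.2 ⟨hc, mem_centralizer_iff.2 hcK⟩))
      XkX := inf_le_left
      cXk := by
        rw [eq_bot_iff]
        rintro x ⟨hx, -, hx2⟩
        rw [mem_bot]
        exact k.W_cen hx (mem_centralizer_iff.1 hx2)
      card := by rw [k.card16 h, k'.card16 h]
      pB := h.twoB
      FB := k.VB0.trans h.B0B
      nF := a.nF
      nF' := a'.nF
      nXk := k.BX
      tr := k.tr h hzlW hzl1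
      tr' := k'.tr h hzlW hzl1
      Kz := hcen k
      Kz' := hcen k'
      KX := fun e he x hx => mem_centralizer_iff.1 hx.2 e he
      zoX := mem_sup_right (h.ZJX hzoJ)
      no_shift := by
        intro x hx hxB g hg
        refine h.no_shift h.zJ h.zC (h.mem_ZJ_of hx.1 hxB) (g := g) ?_
        rw [ez]
        exact hg }
  exact inp.eq

/-- The family of blocks. -/
structure Fam (S B B0 X M0 Y0 : Subgroup G) (W K N N1 N0 : ι → Subgroup G) : Prop where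
  bk : ∀ i, BK B B0 X M0 Y0 W i (K i) (N i) (N1 i) (N0 i)
  na : ∀ i, NA B (K i) (N i)
  chi : ∀ s ∈ S, ∀ i j, ChoiceBase.cj s (W i) = W j → ChoiceBase.cj s ⁅N i, K i⁆ = ⁅N j, K j⁆
  conj : ∀ i j, ∃ s ∈ S, ChoiceBase.cj s (W i) = W j ∧ ChoiceBase.cj s (K i) = K j

/-- **The family.** -/
theorem exists_fam [Finite G] [Finite ι] (h : TK S B Q V Xn ZJ B0 X M0 Y0 L W Z C A z)
    (k : BK B B0 X M0 Y0 W l K N N1 N0) (a : NA B K N) :
    ∃ K N N1 N0 : ι → Subgroup G, Fam S B B0 X M0 Y0 W K N N1 N0 := by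
  choose s hs e using h.tr l
  have hb : ∀ i, BK B B0 X M0 Y0 W i (ChoiceBase.cj (s i) K) (ChoiceBase.cj (s i) N) (ChoiceBase.cj (s i) N1)
      (ChoiceBase.cj (s i) N0) := fun i => BK.cj h k (hs i) (e i)
  have ha : ∀ i, NA B (ChoiceBase.cj (s i) K) (ChoiceBase.cj (s i) N) := fun i => a.cj (h.SB (hs i))
  refine ⟨fun i => ChoiceBase.cj (s i) K, fun i => ChoiceBase.cj (s i) N, fun i => ChoiceBase.cj (s i) N1,
    fun i => ChoiceBase.cj (s i) N0, hb, ha, fun t ht i j hij => ?_, fun i j => ?_⟩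
  · rw [← comm_cjj]
    exact BK.chi h (hb j) (ha j) (BK.cj h (hb i) ht hij) ((ha i).cj (h.SB ht))
  · refine ⟨s j * (s i)⁻¹, mul_mem (hs j) (inv_mem (hs i)), ?_, ?_⟩
    · rw [← e i, cj_cj, inv_mul_cancel_right, e j]
    · rw [cj_cj, inv_mul_cancel_right]

end Cfsg.Agent.Omega.OM.Lev.Low.TorusK

end

section


/-!
# TORUS, `k ≥ 3` (helper607 #23961): (theta)

`K i` one torus block over each line `W i`; `W* = X ∏ [N i, K i]` is abelian and normalised by all `K i`.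

* `TD` : the data;
* `TD.S_norm` : `S` normalises `W*`;
* `transK` : `K l` is transitive on `[N l, K l] #`;
* `TD.theta` : **for every `m` there is `R ≤ K m`, normalised by `K m`, with `K m ≤ R B₀`, which centralises `[N l, K l]`,
  `l ≠ m`.**
-/

set_option autoImplicit false
set_option linter.unusedSectionVars false

namespace Cfsg.Agent.Omega.OM.Lev.Low.TorusK

open Subgroup Cfsg Cfsg.Agent.ZN Cfsg.Agent.ZN.ChoiceBase
open Cfsg.Agent.PLocal.ThompsonJ (isElementaryAbelian_iff)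
open Cfsg.Agent.Omega.SQ1.Bau (mem_sup_comm card_sup_comm elem_comm elem_sq)
open Cfsg.Agent.Omega.NO3S.Level.Claim (Fm Bl cB mem_cB cB_le)
open Cfsg.Agent.Omega.NO3S.ThmB (Fr DM)
open Cfsg.Agent.Omega.OM.Lev.Uni (FrL)
open Cfsg.Agent.Omega.OM.Lev.Low.TorusK.PBC
open scoped commutatorElement

universe u

variable {G : Type u} [Group G]

/-- The data of (theta). -/
structure TD {ι : Type} (S B Q V Xn ZJ B0 X M0 Y0 : Subgroup G) (L W Z C A : ι → Subgroup G) (z : G)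
    (K N N1 N0 : ι → Subgroup G) : Prop where
  tk : TK S B Q V Xn ZJ B0 X M0 Y0 L W Z C A z
  bk : ∀ i, BK B B0 X M0 Y0 W i (K i) (N i) (N1 i) (N0 i)
  loc : ∀ i, K i ≤ normalizer ((X ⊔ ⨆ j, ⁅N j, K j⁆ : Subgroup G) : Set G)
  comm : ∀ i j, i ≠ j → ∀ u ∈ (⁅N i, K i⁆ : Subgroup G), ∀ v ∈ (⁅N j, K j⁆ : Subgroup G), u * v = v * u

/-- `R ⊔ B = R B` -/
theorem mem_sup_nrm {R B : Subgroup G} (hB : B ≤ normalizer (R : Set G)) {g : G} (hg : g ∈ R ⊔ B) :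
    ∃ r ∈ R, ∃ b ∈ B, g = r * b := by
  let T : Subgroup G :=
    { carrier := {g | ∃ r ∈ R, ∃ b ∈ B, g = r * b}
      one_mem' := ⟨1, one_mem _, 1, one_mem _, (one_mul 1).symm⟩
      mul_mem' := by
        rintro _ _ ⟨p, hp, q, hq, rfl⟩ ⟨p', hp', q', hq', rfl⟩
        refine ⟨p * (q * p' * q⁻¹), mul_mem hp ((mem_normalizer_iff.1 (hB hq) p').1 hp'), q * q', mul_mem hq hq', ?_⟩
        group
      inv_mem' := by
        rintro _ ⟨p, hp, q, hq, rfl⟩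
        refine ⟨q⁻¹ * p⁻¹ * q⁻¹⁻¹, (mem_normalizer_iff.1 (hB (inv_mem hq)) p⁻¹).1 (inv_mem hp), q⁻¹, inv_mem hq, ?_⟩
        group }
  have h1 : R ⊔ B ≤ T := sup_le (fun p hp => ⟨p, hp, 1, one_mem _, (mul_one p).symm⟩)
    fun q hq => ⟨1, one_mem _, q, hq, (one_mul q).symm⟩
  exact h1 hg

/-- `K` is transitive on `V #`. -/
theorem transK [Finite G] {B0 K V V1 : Subgroup G} (h : N4 B0 K V V1) {w y : G} (hw : w ∈ V) (hw1 : w ≠ 1)
    (hy : y ∈ V1) (hy1 : y ≠ 1) : ∃ e ∈ K, e * w * e⁻¹ = y := by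
  have m4 := (SigN4.toSig h).toM4
  by_cases hwV : w ∈ V1
  · obtain ⟨e, he, -, h1⟩ := h.tor w hwV hw1 y hy hy1
    exact ⟨e, he, h1⟩
  obtain ⟨x, hx, v, hv, hv'⟩ := h.mv
  have hne : cj x V1 ≠ V1 := fun e => hv' (by
    have : x * v * x⁻¹ ∈ cj x V1 := ⟨v, hv, rfl⟩
    rwa [e] at this)
  obtain ⟨p, hp, q, hq, rfl⟩ := m4.compl hx hne hw
  have hqV : q ∈ V := m4.lineV hx hq
  have hq1 : q ∉ V1 := fun h1 => hwV (mul_mem hp h1)
  obtain ⟨b, hb, e1⟩ := m4.full hqV hq1 hp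
  have e1' : b * q * b⁻¹ = p * q := e1
  obtain ⟨w', hw', rfl⟩ := hq
  have hw'1 : w' ≠ 1 := by
    rintro rfl
    exact hq1 (by rw [map_one]; exact one_mem _)
  obtain ⟨e, he, -, h1⟩ := h.tor w' hw' hw'1 y hy hy1
  refine ⟨e * x⁻¹ * b⁻¹, mul_mem (mul_mem he (inv_mem hx)) (inv_mem (h.BK hb)), ?_⟩
  rw [← e1']
  change e * x⁻¹ * b⁻¹ * (b * (x * w' * x⁻¹) * b⁻¹) * (e * x⁻¹ * b⁻¹)⁻¹ = y
  rw [← h1]
  group

namespace TD

variable {ι : Type} {S B Q V Xn ZJ B0 X M0 Y0 : Subgroup G} {L W Z C A : ι → Subgroup G} {z : G}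
  {K N N1 N0 : ι → Subgroup G} (h : TD S B Q V Xn ZJ B0 X M0 Y0 L W Z C A z K N N1 N0)

include h

theorem FW (i : ι) : ⁅N i, K i⁆ ≤ (X ⊔ ⨆ j, ⁅N j, K j⁆ : Subgroup G) :=
  le_trans (le_iSup (fun j => ⁅N j, K j⁆) i) le_sup_right

theorem WB0 [Finite G] : (X ⊔ ⨆ j, ⁅N j, K j⁆ : Subgroup G) ≤ B0 :=
  sup_le h.tk.XB0 (iSup_le fun i => (h.bk i).VB0)

theorem WY0 [Finite G] : (X ⊔ ⨆ j, ⁅N j, K j⁆ : Subgroup G) ≤ Y0 :=
  sup_le h.tk.XY (iSup_le fun i => (h.bk i).VY0)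

theorem ab [Finite G] {x y : G} (hx : x ∈ (X ⊔ ⨆ j, ⁅N j, K j⁆ : Subgroup G))
    (hy : y ∈ (X ⊔ ⨆ j, ⁅N j, K j⁆ : Subgroup G)) : x * y = y * x := by
  have c1 : ∀ i, (⁅N i, K i⁆ : Subgroup G) ≤ centralizer (X : Set G) := fun i v hv =>
    mem_centralizer_iff.2 fun x hx => (h.tk.cX ((h.bk i).VB0 hv) hx).symm
  have c2 : X ≤ centralizer (X : Set G) := fun v hv => mem_centralizer_iff.2 fun x hx => h.tk.Xc hx hv
  have c3 : ∀ i, (X ⊔ ⨆ j, ⁅N j, K j⁆ : Subgroup G) ≤ centralizer ((⁅N i, K i⁆ : Subgroup G) : Set G) := by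
    intro i
    refine sup_le (le_centralizer_iff.1 (c1 i)) (iSup_le fun j => ?_)
    by_cases e : i = j
    · subst e
      exact fun v hv => mem_centralizer_iff.2 fun x hx =>
        (h.bk i).pb.comm ((h.bk i).pb.VN hx) ((h.bk i).pb.VN hv)
    · exact fun v hv => mem_centralizer_iff.2 fun x hx => h.comm i j e x hx v hv
  have c4 : (X ⊔ ⨆ j, ⁅N j, K j⁆ : Subgroup G) ≤
      centralizer ((X ⊔ ⨆ j, ⁅N j, K j⁆ : Subgroup G) : Set G) := by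
    rw [le_centralizer_iff]
    refine sup_le ?_ (iSup_le fun i => le_centralizer_iff.1 (c3 i))
    exact le_centralizer_iff.1 (sup_le c2 (iSup_le c1))
  exact (mem_centralizer_iff.1 (c4 hx) y hy).symm

theorem el [Finite G] : IsElementaryAbelian 2 (X ⊔ ⨆ j, ⁅N j, K j⁆ : Subgroup G) := by
  refine isElementaryAbelian_iff.2 ⟨fun x hx y hy => h.ab hx hy, ?_⟩
  let T : Subgroup G :=
    { carrier := {x | x ∈ (X ⊔ ⨆ j, ⁅N j, K j⁆ : Subgroup G) ∧ x ^ 2 = 1}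
      one_mem' := ⟨one_mem _, one_pow 2⟩
      mul_mem' := by
        rintro a b ⟨ha, ha'⟩ ⟨hb, hb'⟩
        have hc : Commute a b := h.ab ha hb
        exact ⟨mul_mem ha hb, by rw [hc.mul_pow, ha', hb', one_mul]⟩
      inv_mem' := by
        rintro a ⟨ha, ha'⟩
        exact ⟨inv_mem ha, by rw [inv_pow, ha', inv_one]⟩ }
  have hT : (X ⊔ ⨆ j, ⁅N j, K j⁆ : Subgroup G) ≤ T := by
    refine sup_le (fun x hx => ⟨mem_sup_left hx, elem_sq h.tk.elX x hx⟩) (iSup_le fun i x hx => ⟨h.FW i hx, ?_⟩)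
    exact elem_sq (h.bk i).pb.el x ((h.bk i).pb.VN hx)
  exact fun x hx => (hT hx).2

/-- `S` normalises `W*`. -/
theorem S_norm [Finite G] [Finite ι] : S ≤ normalizer ((X ⊔ ⨆ j, ⁅N j, K j⁆ : Subgroup G) : Set G) := by
  intro s hs
  refine mem_normalizer_of_cj_le ?_
  rw [cj_le_iff]
  refine sup_le ?_ (iSup_le fun i => ?_)
  · rw [← cj_le_iff, cj_eq_of_mem_normalizer (h.tk.SX hs)]
    exact le_sup_left
  · rw [← cj_le_iff]
    obtain ⟨j, hj, -, -⟩ := h.tk.perm s hs i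
    have k' := (h.bk i).cj h.tk hs hj
    have h1 := (uni' h.tk (h.bk j) k').1
    rw [comm_cjj] at h1
    exact h1.trans (sup_le (h.FW j) le_sup_left)

theorem W_bot (i l : ι) (hil : l ≠ i) : W i ⊓ W l = ⊥ := by
  rw [eq_bot_iff, ← h.tk.fr.dir i]
  exact inf_le_inf_left _ (h.tk.fr.WjC i l (Ne.symm hil))

theorem norm_X {g : G} (hgB : g ∈ normalizer (B0 : Set G)) {x : G} (hx : x ∈ X) : g * x * g⁻¹ ∈ X := by
  have h3 : ChoiceBase.cj g X = X := by rw [← h.tk.zB, ← zc_cj', cj_eq_of_mem_normalizer hgB]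
  rw [← h3]
  exact cj_mem hx

theorem norm_W [Finite G] [Finite ι] {i : ι} {g : G} (hg : g ∈ K i) (hgB : g ∈ normalizer (B0 : Set G)) {x : G}
    (hx : x ∈ W i) : g * x * g⁻¹ ∈ W i := by
  rw [← (h.bk i).inf_X h.tk]
  exact ⟨(mem_normalizer_iff.1 ((h.bk i).pb.LV hg) x).1 ((h.bk i).W_le h.tk hx), h.norm_X hgB (h.tk.WX i hx)⟩

/-- `[F l, B₀] ≤ W l` -/
theorem quad [Finite G] [Finite ι] (l : ι) {b : G} (hb : b ∈ B0) {v : G} (hv : v ∈ (⁅N l, K l⁆ : Subgroup G)) :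
    b * v * b⁻¹ * v⁻¹ ∈ W l := ((h.bk l).n4 h.tk).quad b hb v hv

end TD

/-- One block `i` with a small offender `D0` which moves `[N i, K i]`. -/
structure TD1 {ι : Type} (S B Q V Xn ZJ B0 X M0 Y0 : Subgroup G) (L W Z C A : ι → Subgroup G) (z : G)
    (K N N1 N0 : ι → Subgroup G) (WW H : Subgroup G) (AA : Set (Subgroup G)) (i : ι) (D0 : Subgroup G) : Prop where
  td : TD S B Q V Xn ZJ B0 X M0 Y0 L W Z C A z K N N1 N0
  eW : WW = X ⊔ ⨆ j, ⁅N j, K j⁆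
  fm : Fm S WW H B0 X AA
  bl : Bl S WW H B0 X AA (K i) ⁅N i, K i⁆
  fr : Fr (⁅N i, K i⁆ : Subgroup G) (DM WW AA) D0

namespace TD1

variable {ι : Type} {S B Q V Xn ZJ B0 X M0 Y0 : Subgroup G} {L W Z C A : ι → Subgroup G} {z : G}
  {K N N1 N0 : ι → Subgroup G} {WW H : Subgroup G} {AA : Set (Subgroup G)} {i : ι} {D0 : Subgroup G}
  (h : TD1 S B Q V Xn ZJ B0 X M0 Y0 L W Z C A z K N N1 N0 WW H AA i D0)

include h

theorem D0B : D0 ≤ B0 := h.fm.le D0 h.fr.1.1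

/-- `[WW, D₀] ≤ W i` -/
theorem comm_W [Finite G] [Finite ι] {u a : G} (hu : u ∈ WW) (ha : a ∈ D0) : a * u * a⁻¹ * u⁻¹ ∈ W i := by
  rw [← (h.td.bk i).inf_X h.td.tk]
  exact comm_U h.fm h.bl h.fr hu ha

/-- `R = ⟨D₀^(K i)⟩` -/
def Rg (K : ι → Subgroup G) (i : ι) (D0 : Subgroup G) : Subgroup G := ⨆ x : K i, ChoiceBase.cj (x : G) D0

omit h in
theorem le_Rg {x : G} (hx : x ∈ K i) : ChoiceBase.cj x D0 ≤ Rg K i D0 :=
  le_iSup (fun x : K i => ChoiceBase.cj (x : G) D0) ⟨x, hx⟩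

omit h in
theorem D0_le_Rg : D0 ≤ Rg K i D0 := by
  have h1 := le_Rg (K := K) (i := i) (D0 := D0) (one_mem (K i))
  rwa [cj_one] at h1

theorem Rg_le [Finite G] : Rg K i D0 ≤ K i := by
  refine iSup_le fun x => ?_
  have h1 := cj_mono (x : G) (h.D0B.trans h.bl.BL)
  rwa [cj_eq_of_mem_normalizer (le_normalizer x.2)] at h1

omit h in
theorem Rg_norm [Finite G] : K i ≤ normalizer (Rg K i D0 : Set G) := by
  have key : ∀ g ∈ K i, ChoiceBase.cj g (Rg K i D0) ≤ Rg K i D0 := by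
    intro g hg
    rw [cj_le_iff]
    refine iSup_le fun x => ?_
    rw [← cj_le_iff, cj_cj]
    exact le_Rg (mul_mem hg x.2)
  exact fun g hg => mem_normalizer_of_cj_le (key g hg)

theorem K_le [Finite G] : K i ≤ Rg K i D0 ⊔ B0 :=
  le_of h.fm h.bl h.fr le_sup_right fun _ hx => (le_Rg hx).trans le_sup_left

/-- `[WW, R] ≤ F i` -/
theorem comm_R [Finite G] {g : G} (hg : g ∈ Rg K i D0) {u : G} (hu : u ∈ WW) :
    g * u * g⁻¹ * u⁻¹ ∈ (⁅N i, K i⁆ : Subgroup G) := by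
  let T : Subgroup G :=
    { carrier := {g | g ∈ K i ∧ ∀ u ∈ WW, g * u * g⁻¹ * u⁻¹ ∈ (⁅N i, K i⁆ : Subgroup G)}
      one_mem' := ⟨one_mem _, fun u _ => by simp⟩
      mul_mem' := by
        rintro a b ⟨ha, ha'⟩ ⟨hb, hb'⟩
        refine ⟨mul_mem ha hb, fun u hu => ?_⟩
        have hbu : b * u * b⁻¹ ∈ WW := (mem_normalizer_iff.1 (h.bl.LY hb) u).1 hu
        have e : a * b * u * (a * b)⁻¹ * u⁻¹ = (a * (b * u * b⁻¹) * a⁻¹ * (b * u * b⁻¹)⁻¹) * (b * u * b⁻¹ * u⁻¹) := by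
          group
        rw [e]
        exact mul_mem (ha' _ hbu) (hb' u hu)
      inv_mem' := by
        rintro a ⟨ha, ha'⟩
        refine ⟨inv_mem ha, fun u hu => ?_⟩
        have hau : a⁻¹ * u * a ∈ WW := by
          have := (mem_normalizer_iff.1 (h.bl.LY (inv_mem ha)) u).1 hu
          rwa [inv_inv] at this
        have h1 := inv_mem (ha' _ hau)
        have e : (a * (a⁻¹ * u * a) * a⁻¹ * (a⁻¹ * u * a)⁻¹)⁻¹ = a⁻¹ * u * a⁻¹⁻¹ * u⁻¹ := by group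
        rwa [e] at h1 }
  have hT : Rg K i D0 ≤ T := by
    refine iSup_le fun x => ?_
    rintro _ ⟨a, ha, rfl⟩
    refine ⟨mul_mem (mul_mem x.2 (h.bl.BL (h.D0B ha))) (inv_mem x.2), fun u hu => ?_⟩
    have hu' : (x : G)⁻¹ * u * x ∈ WW := by
      have := (mem_normalizer_iff.1 (h.bl.LY (inv_mem x.2)) u).1 hu
      rwa [inv_inv] at this
    have h1 := (comm_U h.fm h.bl h.fr hu' ha).1
    have h2 := (mem_normalizer_iff.1 (h.bl.LV x.2) _).1 h1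
    have e : (x : G) * (a * ((x : G)⁻¹ * u * x) * a⁻¹ * ((x : G)⁻¹ * u * x)⁻¹) * (x : G)⁻¹ =
        x * a * (x : G)⁻¹ * u * (x * a * (x : G)⁻¹)⁻¹ * u⁻¹ := by group
    rw [e] at h2
    exact h2
  exact (hT hg).2 u hu

/-- an element of `C_B₀(F i) ∩ R` centralises `WW` -/
theorem cen_R [Finite G] [Finite ι] {p : G} (hp : p ∈ cB B0 ⁅N i, K i⁆) (hpR : p ∈ Rg K i D0) :
    p ∈ centralizer (WW : Set G) := by
  have hpB : p ∈ B0 := cB_le _ _ hp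
  have h1 : WW ≤ centralizer ({p} : Set G) := by
    rw [h.eW]
    refine sup_le ?_ (iSup_le fun l => ?_)
    · intro x hx
      exact mem_centralizer_singleton_iff.2 (h.td.tk.cX hpB hx).symm
    · intro u hu
      rw [mem_centralizer_singleton_iff]
      by_cases hl : l = i
      · subst hl
        exact ((mem_cB.1 hp).2 u hu).symm
      · have hu' : u ∈ WW := by rw [h.eW]; exact h.td.FW l hu
        have h2 := h.comm_R hpR hu'
        have h3 := h.td.quad l hpB hu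
        have h4 : p * u * p⁻¹ * u⁻¹ ∈ W i ⊓ W l := by
          refine mem_inf.2 ⟨?_, h3⟩
          rw [← (h.td.bk i).inf_X h.td.tk]
          exact mem_inf.2 ⟨h2, h.td.tk.WX l h3⟩
        rw [h.td.W_bot i l hl, mem_bot, mul_inv_eq_one, mul_inv_eq_iff_eq_mul] at h4
        exact h4.symm
  rw [mem_centralizer_iff]
  intro u hu
  exact mem_centralizer_singleton_iff.1 (h1 hu)

/-- every element of `WW` is `v n`, `v ∈ F i`, `n` centralised by `D₀` and `D₀^x`. -/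
theorem split [Finite G] [Finite ι] {x : G} (hx : x ∈ K i) (hne : ChoiceBase.cj x (W i) ≠ W i) {c : G} (hc : c ∈ WW) :
    ∃ v ∈ (⁅N i, K i⁆ : Subgroup G), ∃ n ∈ WW, (∀ a ∈ D0, a * n = n * a) ∧
      (∀ a ∈ D0, x * a * x⁻¹ * n = n * (x * a * x⁻¹)) ∧ c = v * n := by
  have n4 := (h.td.bk i).n4 h.td.tk
  have m4 := (SigN4.toSig n4).toM4
  obtain ⟨v1, hv1, c1, hc1, hA1, rfl⟩ := full h.fm h.bl h.fr hc
  have hc1' : x⁻¹ * c1 * x ∈ WW := by
    have := (mem_normalizer_iff.1 (h.bl.LY (inv_mem hx)) c1).1 hc1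
    rwa [inv_inv] at this
  obtain ⟨v2, hv2, c2, hc2, hA2, e2⟩ := full h.fm h.bl h.fr hc1'
  have hv2' : x * v2 * x⁻¹ ∈ (⁅N i, K i⁆ : Subgroup G) := (mem_normalizer_iff.1 (h.bl.LV hx) v2).1 hv2
  obtain ⟨p, hp, q, hq, e3⟩ := m4.compl hx hne hv2'
  obtain ⟨w, hw, rfl⟩ := hq
  have hpV : p ∈ (⁅N i, K i⁆ : Subgroup G) := n4.V1V hp
  have e4 : c1 = p * (x * (w * c2) * x⁻¹) := by
    have e5 : c1 = x * (x⁻¹ * c1 * x) * x⁻¹ := by group
    rw [e5, e2]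
    calc x * (v2 * c2) * x⁻¹ = (x * v2 * x⁻¹) * (x * c2 * x⁻¹) := by group
      _ = p * (x * w * x⁻¹) * (x * c2 * x⁻¹) := by rw [e3]; rfl
      _ = _ := by group
  have hwc : w * c2 ∈ WW := mul_mem (h.bl.VY (n4.V1V hw)) hc2
  refine ⟨v1 * p, mul_mem hv1 hpV, x * (w * c2) * x⁻¹, (mem_normalizer_iff.1 (h.bl.LY hx) _).1 hwc, ?_, ?_, ?_⟩
  · intro a ha
    have h1 : x * (w * c2) * x⁻¹ = p⁻¹ * c1 := by rw [e4]; group
    rw [h1]
    have c3 : Commute a p := n4.c1 a (h.D0B ha) p hp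
    have c4 : Commute a c1 := hA1 a ha
    exact (c3.inv_right.mul_right c4).eq
  · intro a ha
    have c3 : Commute a w := n4.c1 a (h.D0B ha) w hw
    have c4 : Commute a c2 := hA2 a ha
    have c5 := (c3.mul_right c4).eq
    calc x * a * x⁻¹ * (x * (w * c2) * x⁻¹) = x * (a * (w * c2)) * x⁻¹ := by group
      _ = x * (w * c2 * a) * x⁻¹ := by rw [c5]
      _ = _ := by group
  · rw [mul_assoc, ← e4]

/-- `R ≤ D₀ ⊔ D₀^x ⊔ C_R(WW)` -/
theorem R_le [Finite G] [Finite ι] {x : G} (hx : x ∈ K i) (hm : SQ1.Bau.Mv (W i) x) :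
    Rg K i D0 ≤ D0 ⊔ ChoiceBase.cj x D0 ⊔ (Rg K i D0 ⊓ centralizer (WW : Set G)) := by
  have n4 := (h.td.bk i).n4 h.td.tk
  set T : Subgroup G := D0 ⊔ ChoiceBase.cj x D0 ⊔ (Rg K i D0 ⊓ centralizer (WW : Set G)) with hT
  have hC : ∀ g ∈ K i, ∀ y ∈ Rg K i D0 ⊓ centralizer (WW : Set G), g * y * g⁻¹ ∈ Rg K i D0 ⊓ centralizer (WW : Set G) := by
    rintro g hg y ⟨hy1, hy2⟩
    refine ⟨(mem_normalizer_iff.1 (Rg_norm hg) y).1 hy1, mem_centralizer_iff.2 fun u hu => ?_⟩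
    have hu' : g⁻¹ * u * g ∈ WW := by
      have := (mem_normalizer_iff.1 (h.bl.LY (inv_mem hg)) u).1 hu
      rwa [inv_inv] at this
    have h1 := mem_centralizer_iff.1 hy2 _ hu'
    calc u * (g * y * g⁻¹) = g * ((g⁻¹ * u * g) * y) * g⁻¹ := by group
      _ = g * (y * (g⁻¹ * u * g)) * g⁻¹ := by rw [h1]
      _ = _ := by group
  -- `[D₀, p] ≤ C_R(WW)`
  have hDp : ∀ p ∈ cB B0 (⁅N i, K i⁆ : Subgroup G), ∀ a ∈ D0, p * a * p⁻¹ * a⁻¹ ∈
      Rg K i D0 ⊓ centralizer (WW : Set G) := by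
    intro p hp a ha
    have hpK : p ∈ K i := h.bl.BL (cB_le _ _ hp)
    have haK : a ∈ K i := h.bl.BL (h.D0B ha)
    have h1 : p * a * p⁻¹ * a⁻¹ ∈ Rg K i D0 :=
      mul_mem ((mem_normalizer_iff.1 (Rg_norm hpK) a).1 (D0_le_Rg ha)) (inv_mem (D0_le_Rg ha))
    refine mem_inf.2 ⟨h1, h.cen_R ?_ h1⟩
    have h2 := (mem_normalizer_iff.1 (h.bl.LP haK) _).1 (inv_mem hp)
    have h3 := mul_mem hp h2
    have e : p * (a * p⁻¹ * a⁻¹) = p * a * p⁻¹ * a⁻¹ := by group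
    rwa [e] at h3
  have hpT : ∀ p ∈ cB B0 (⁅N i, K i⁆ : Subgroup G), p ∈ normalizer (T : Set G) := by
    intro p hp
    have hpK : p ∈ K i := h.bl.BL (cB_le _ _ hp)
    refine mem_normalizer_of_cj_le ?_
    rw [cj_le_iff, hT]
    refine sup_le (sup_le ?_ ?_) ?_
    · rw [← cj_le_iff]
      rintro _ ⟨a, ha, rfl⟩
      change p * a * p⁻¹ ∈ _
      have e : p * a * p⁻¹ = p * a * p⁻¹ * a⁻¹ * a := by group
      rw [e]
      exact mul_mem (mem_sup_right (hDp p hp a ha)) (mem_sup_left (mem_sup_left ha))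
    · rw [← cj_le_iff]
      rintro _ ⟨_, ⟨a, ha, rfl⟩, rfl⟩
      change p * (x * a * x⁻¹) * p⁻¹ ∈ _
      have hp' : x⁻¹ * p * x ∈ cB B0 (⁅N i, K i⁆ : Subgroup G) := by
        have := (mem_normalizer_iff.1 (h.bl.LP (inv_mem hx)) p).1 hp
        rwa [inv_inv] at this
      have h1 := hC x hx _ (hDp _ hp' a ha)
      have e : p * (x * a * x⁻¹) * p⁻¹ =
          x * (x⁻¹ * p * x * a * (x⁻¹ * p * x)⁻¹ * a⁻¹) * x⁻¹ * (x * a * x⁻¹) := by group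
      rw [e]
      exact mul_mem (mem_sup_right h1) (mem_sup_left (mem_sup_right (cj_mem ha)))
    · rw [← cj_le_iff]
      rintro _ ⟨y, hy, rfl⟩
      exact mem_sup_right (hC p hpK y hy)
  have hKT : K i ≤ normalizer (T : Set G) := by
    refine n4.gen x hx hm _ ?_ ?_
    · intro b hb
      obtain ⟨a, ha, p, hp, rfl⟩ := dec h.fm h.bl h.fr hb
      exact mul_mem (le_normalizer (mem_sup_left (mem_sup_left ha))) (hpT p hp)
    · intro b hb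
      obtain ⟨a, ha, p, hp, rfl⟩ := dec h.fm h.bl h.fr hb
      have e : x * (a * p) * x⁻¹ = (x * a * x⁻¹) * (x * p * x⁻¹) := by group
      rw [e]
      refine mul_mem (le_normalizer (mem_sup_left (mem_sup_right (cj_mem ha)))) (hpT _ ?_)
      exact (mem_normalizer_iff.1 (h.bl.LP hx) p).1 hp
  refine iSup_le fun g => ?_
  rintro _ ⟨a, ha, rfl⟩
  exact (mem_normalizer_iff.1 (hKT g.2) a).1 (mem_sup_left (mem_sup_left ha))

/-- `WW = F i C_WW(R)` -/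
theorem split' [Finite G] [Finite ι] {c : G} (hc : c ∈ WW) :
    ∃ v ∈ (⁅N i, K i⁆ : Subgroup G), ∃ n ∈ WW, (∀ r ∈ Rg K i D0, r * n = n * r) ∧ c = v * n := by
  have n4 := (h.td.bk i).n4 h.td.tk
  obtain ⟨x, hx, hm⟩ := n4.mv
  have hne : ChoiceBase.cj x (W i) ≠ W i := by
    obtain ⟨v, hv, hv'⟩ := hm
    intro e
    apply hv'
    have : x * v * x⁻¹ ∈ ChoiceBase.cj x (W i) := cj_mem hv
    rwa [e] at this
  obtain ⟨v, hv, n, hn, h1, h2, e⟩ := h.split hx hne hc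
  refine ⟨v, hv, n, hn, fun r hr => ?_, e⟩
  have h3 : D0 ⊔ ChoiceBase.cj x D0 ⊔ (Rg K i D0 ⊓ centralizer (WW : Set G)) ≤ centralizer ({n} : Set G) := by
    refine sup_le (sup_le (fun a ha => mem_centralizer_singleton_iff.2 (h1 a ha)) ?_) ?_
    · intro y hy
      obtain ⟨a, ha, rfl⟩ := ex_cj hy
      exact mem_centralizer_singleton_iff.2 (h2 a ha)
    · rintro y ⟨-, hy⟩
      exact mem_centralizer_singleton_iff.2 (mem_centralizer_iff.1 hy n hn).symm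
  exact mem_centralizer_singleton_iff.1 (h3 (h.R_le hx hm hr))

/-- a torus element in `R` -/
theorem tor' [Finite G] [Finite ι] : ∃ t ∈ Rg K i D0, t ∈ normalizer (B0 : Set G) ∧
    ∀ w ∈ W i, t * w * t⁻¹ = w → w = 1 := by
  obtain ⟨g, hg, hgB, -, hf⟩ := (h.td.bk i).tor
  have hB : B0 ≤ normalizer (Rg K i D0 : Set G) := h.bl.BL.trans Rg_norm
  obtain ⟨r, hr, b, hb, rfl⟩ := mem_sup_nrm hB (h.K_le hg)
  refine ⟨r, hr, ?_, fun w hw e => hf w hw ?_⟩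
  · have h1 := mul_mem hgB (inv_mem (le_normalizer hb))
    rwa [mul_inv_cancel_right] at h1
  · have h2 := h.td.tk.cX hb (h.td.tk.WX i hw)
    calc r * b * w * (r * b)⁻¹ = r * (b * w) * b⁻¹ * r⁻¹ := by group
      _ = r * (w * b) * b⁻¹ * r⁻¹ := by rw [h2]
      _ = r * w * r⁻¹ := by group
      _ = w := e

/-- **The shift**: `w = v n`, `w ∈ F l`, `1 ≠ v ∈ W i`, `n` centralised by `R`: impossible. -/
theorem no_v [Finite G] [Finite ι] {l : ι} (hl : l ≠ i) {w v n : G} (hw : w ∈ (⁅N l, K l⁆ : Subgroup G)) (hw1 : w ≠ 1)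
    (hv : v ∈ W i) (hn : ∀ r ∈ Rg K i D0, r * n = n * r) (e : w = v * n) : v = 1 := by
  by_contra hv1
  have tk := h.td.tk
  obtain ⟨t, ht, htB, htf⟩ := h.tor'
  have htK : t ∈ K i := h.Rg_le ht
  -- `t w t⁻¹ = u w`
  set u : G := t * v * t⁻¹ * v⁻¹ with hu
  have hvt : t * v * t⁻¹ ∈ W i := h.td.norm_W htK htB hv
  have huW : u ∈ W i := mul_mem hvt (inv_mem hv)
  have hu1 : u ≠ 1 := fun h0 => hv1 (htf v hv (mul_inv_eq_one.1 h0))
  have htw : t * w * t⁻¹ = u * w := by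
    have h1 := hn t ht
    rw [e, hu]
    calc t * (v * n) * t⁻¹ = t * v * (t⁻¹ * (t * n)) * t⁻¹ := by group
      _ = t * v * (t⁻¹ * (n * t)) * t⁻¹ := by rw [h1]
      _ = _ := by group
  -- `e w e⁻¹ = y`
  obtain ⟨y, hy, hy1⟩ := tk.exists_Z l
  have hyW : y ∈ W l := tk.ZW l hy
  obtain ⟨g, hg, hgw⟩ := transK ((h.td.bk l).n4 tk) hw hw1 hyW hy1
  have hgWi : ∀ x ∈ W i, g * x = x * g := fun x hx => (h.td.bk l).cW i (Ne.symm hl) x hx g hg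
  have htWl : ∀ p, p ≠ i → ∀ x ∈ W p, t * x = x * t := fun p hp x hx => (h.td.bk i).cW p hp x hx t htK
  -- `d = t⁻¹ g t g⁻¹`
  set d : G := t⁻¹ * g * t * g⁻¹ with hd
  set κ : G := t⁻¹ * u * t with hκ
  have htB' : t⁻¹ ∈ normalizer (B0 : Set G) := inv_mem htB
  have hκW : κ ∈ W i := by
    have h1 := h.td.norm_W (inv_mem htK) htB' huW
    rwa [inv_inv] at h1
  have hκ1 : κ ≠ 1 := fun h0 => hu1 (by
    have : u = t * κ * t⁻¹ := by rw [hκ]; group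
    rw [this, h0]; group)
  have hdy : d * y * d⁻¹ = κ * y := by
    have e1 : g⁻¹ * y * g = w := by rw [← hgw]; group
    have e2 : g * (u * w) * g⁻¹ = u * y := by
      calc g * (u * w) * g⁻¹ = (g * u) * w * g⁻¹ := by group
        _ = (u * g) * w * g⁻¹ := by rw [hgWi u huW]
        _ = u * (g * w * g⁻¹) := by group
        _ = u * y := by rw [hgw]
    have e3 : t⁻¹ * y * t = y := by rw [mul_assoc, ← htWl l hl y hyW]; group
    calc d * y * d⁻¹ = t⁻¹ * (g * (t * (g⁻¹ * y * g) * t⁻¹) * g⁻¹) * t := by rw [hd]; group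
      _ = t⁻¹ * (g * (u * w) * g⁻¹) * t := by rw [e1, htw]
      _ = t⁻¹ * (u * y) * t := by rw [e2]
      _ = (t⁻¹ * u * t) * (t⁻¹ * y * t) := by group
      _ = κ * y := by rw [e3]
  have hdc : ∀ p, p ≠ l → ∀ x ∈ W p, d * x = x * d := by
    intro p hp x hx
    have hgx : g * x = x * g := (h.td.bk l).cW p hp x hx g hg
    have h1 : g * (t * x * t⁻¹) = (t * x * t⁻¹) * g := by
      by_cases hpi : p = i
      · subst hpi
        exact hgWi _ (h.td.norm_W htK htB hx)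
      · rw [htWl p hpi x hx, mul_inv_cancel_right, hgx]
    calc d * x = t⁻¹ * g * t * (g⁻¹ * (x * g)) * g⁻¹ := by rw [hd]; group
      _ = t⁻¹ * g * t * (g⁻¹ * (g * x)) * g⁻¹ := by rw [hgx]
      _ = t⁻¹ * (g * (t * x * t⁻¹)) * t * g⁻¹ := by group
      _ = t⁻¹ * ((t * x * t⁻¹) * g) * t * g⁻¹ := by rw [h1]
      _ = x * d := by rw [hd]; group
  -- conjugate `κ` into `Z i`
  obtain ⟨yi, hyi, hyi1⟩ := tk.exists_Z i
  obtain ⟨r, hr, hrB, hrκ⟩ := ((h.td.bk i).n4 tk).tor κ hκW hκ1 yi (tk.ZW i hyi) hyi1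
  set g2 : G := r * d * r⁻¹ with hg2
  have hrW : ∀ p, p ≠ i → ∀ x ∈ W p, r * x = x * r := fun p hp x hx => (h.td.bk i).cW p hp x hx r hr
  have hg2y : g2 * y * g2⁻¹ = yi * y := by
    have e1 : r⁻¹ * y * r = y := by rw [mul_assoc, ← hrW l hl y hyW]; group
    have e2 : r * y * r⁻¹ = y := by rw [hrW l hl y hyW]; group
    calc g2 * y * g2⁻¹ = r * (d * (r⁻¹ * y * r) * d⁻¹) * r⁻¹ := by rw [hg2]; group
      _ = r * (κ * y) * r⁻¹ := by rw [e1, hdy]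
      _ = (r * κ * r⁻¹) * (r * y * r⁻¹) := by group
      _ = yi * y := by rw [hrκ, e2]
  have hg2c : ∀ p, p ≠ l → ∀ x ∈ W p, g2 * x = x * g2 := by
    intro p hp x hx
    have h1 : r⁻¹ * x * r ∈ W p := by
      by_cases hpi : p = i
      · subst hpi
        have h2 := h.td.norm_W (inv_mem hr) (inv_mem hrB) hx
        rwa [inv_inv] at h2
      · rw [mul_assoc, ← hrW p hpi x hx, inv_mul_cancel_left]
        exact hx
    have h2 := hdc p hp _ h1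
    calc g2 * x = r * (d * (r⁻¹ * x * r)) * r⁻¹ := by rw [hg2]; group
      _ = r * (r⁻¹ * x * r * d) * r⁻¹ := by rw [h2]
      _ = x * g2 := by rw [hg2]; group
  -- `z ↦ z yi`
  obtain ⟨w0, hw0, c, hc, hcJ, ez⟩ := tk.fr.split_ZJ l tk.zJ
  have hw01 : w0 ≠ 1 := fun h0 => tk.zC l (by rw [ez, h0, one_mul]; exact hc)
  have e0 : w0 = y := tk.Z_two l hw0 hy hw01 hy1
  have hcc : g2 * c = c * g2 := by
    have h1 : c ∈ centralizer ({g2} : Set G) :=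
      tk.mem_of_C (l := l) (fun p hp x hx => mem_centralizer_singleton_iff.2 (hg2c p hp x (tk.ZW p hx)).symm) hcJ hc
    exact (mem_centralizer_singleton_iff.1 h1).symm
  have hyiJ : yi ∈ ZJ := tk.fr.Z_le i hyi
  have h1 : g2 * z * g2⁻¹ = z * yi := by
    have hzc : yi * y * c = y * c * yi := by
      have c1 : Commute yi y := tk.Xc (tk.ZX i hyi) (tk.ZX l hy)
      have c2 : Commute yi c := tk.Xc (tk.ZX i hyi) (tk.ZJX hcJ)
      rw [mul_assoc]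
      exact (c1.mul_right c2).eq
    rw [ez, e0]
    calc g2 * (y * c) * g2⁻¹ = (g2 * y * g2⁻¹) * ((g2 * c) * g2⁻¹) := by group
      _ = (yi * y) * ((c * g2) * g2⁻¹) := by rw [hg2y, hcc]
      _ = yi * y * c := by group
      _ = y * c * yi := hzc
  exact hyi1 (tk.no_shift tk.zJ tk.zC hyiJ h1)

/-- **(theta) for one block.** -/
theorem cen_F [Finite G] [Finite ι] {l : ι} (hl : l ≠ i) :
    Rg K i D0 ≤ centralizer ((⁅N l, K l⁆ : Subgroup G) : Set G) := by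
  have tk := h.td.tk
  have n4 := (h.td.bk i).n4 tk
  rw [le_centralizer_iff]
  intro w hw
  have hwW : w ∈ WW := by rw [h.eW]; exact h.td.FW l hw
  obtain ⟨v, hv, n, hnW, hn, e⟩ := h.split' hwW
  -- `D₀` centralises `w`
  have hDw : ∀ a ∈ D0, a * w = w * a := by
    intro a ha
    have h1 : a * w * a⁻¹ * w⁻¹ ∈ W i ⊓ W l := ⟨h.comm_W hwW ha, h.td.quad l (h.D0B ha) hw⟩
    rwa [h.td.W_bot i l hl, mem_bot, mul_inv_eq_one, mul_inv_eq_iff_eq_mul] at h1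
  have hDv : ∀ a ∈ D0, a * v = v * a := by
    intro a ha
    have ev : v = w * n⁻¹ := by rw [e]; group
    have c1 : Commute a w := hDw a ha
    have c2 : Commute a n := hn a (D0_le_Rg ha)
    rw [ev]
    exact (c1.mul_right c2.inv_right).eq
  obtain ⟨a, ha, hna⟩ := SetLike.not_le_iff_exists.1 h.fr.2
  have hna' : ∃ v ∈ (⁅N i, K i⁆ : Subgroup G), a * v ≠ v * a := by
    by_contra hcon
    push Not at hcon
    exact hna (mem_centralizer_iff.2 fun v hv => (hcon v hv).symm)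
  have hvW : v ∈ W i := n4.cent a (h.D0B ha) hna' v hv (hDv a ha)
  have hv1 : v = 1 := by
    by_contra hv1
    have hw1 : w ≠ 1 := by
      rintro rfl
      have h2 : v = n⁻¹ := eq_inv_of_mul_eq_one_left e.symm
      obtain ⟨t, ht, -, htf⟩ := h.tor'
      refine hv1 (htf v hvW ?_)
      have c2 : Commute t n := hn t ht
      have c3 := c2.inv_right.eq
      rw [← h2] at c3
      rw [c3, mul_inv_cancel_right]
    exact hv1 (h.no_v hl hw hw1 hvW hn e)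
  rw [mem_centralizer_iff]
  intro r hr
  rw [e, hv1, one_mul]
  exact hn r hr

end TD1

namespace TD

variable {ι : Type} {S B Q V Xn ZJ B0 X M0 Y0 : Subgroup G} {L W Z C A : ι → Subgroup G} {z : G}
  {K N N1 N0 : ι → Subgroup G} (h : TD S B Q V Xn ZJ B0 X M0 Y0 L W Z C A z K N N1 N0)

include h

/-- the family on `W*` and a small offender which moves `F m` -/
theorem exists_TD1 [Finite G] [Finite ι] (m : ι) : ∃ (H : Subgroup G) (AA : Set (Subgroup G)) (D0 : Subgroup G),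
    TD1 S B Q V Xn ZJ B0 X M0 Y0 L W Z C A z K N N1 N0 (X ⊔ ⨆ j, ⁅N j, K j⁆) H AA m D0 := by
  set WW : Subgroup G := X ⊔ ⨆ j, ⁅N j, K j⁆ with hWW
  obtain ⟨AA, f, fS⟩ := h.tk.fml WW (normalizer (WW : Set G) ⊓ M0) h.el h.WB0 h.WY0 inf_le_left inf_le_right
  have hX : WW ⊓ X = X := inf_eq_right.2 (by rw [hWW]; exact le_sup_left)
  have hbl : ∀ i, Bl S WW (normalizer (WW : Set G) ⊓ M0) B0 X AA (K i) ⁅N i, K i⁆ := by
    intro i
    have h1 := (h.bk i).bl h.tk f (h.FW i) (h.loc i) (le_inf (h.loc i) (h.bk i).KM)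
    rwa [hX] at h1
  rw [hX] at f
  -- a smallest member
  obtain ⟨A1, hA1, hA1'⟩ := (hbl m).off
  have hn : ¬ A1 ≤ centralizer (WW : Set G) := fun h' => hA1' (le_inf (f.le A1 hA1)
    (h'.trans (centralizer_le (h.FW m))))
  obtain ⟨A0, hA0⟩ : ∃ A0, A0 ∈ DM WW AA := by
    have h1 : ∃ n, ∃ A ∈ AA, ¬ A ≤ centralizer (WW : Set G) ∧ (centralizer (WW : Set G)).relIndex A = n :=
      ⟨_, A1, hA1, hn, rfl⟩
    classical
    obtain ⟨A, hA, hA', hn⟩ := Nat.find_spec h1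
    refine ⟨A, hA, hA', fun B hB hB' => ?_⟩
    rw [hn]
    exact Nat.find_min' h1 ⟨B, hB, hB', rfl⟩
  -- it moves some `F l`
  obtain ⟨l, hl⟩ : ∃ l, ¬ A0 ≤ centralizer ((⁅N l, K l⁆ : Subgroup G) : Set G) := by
    by_contra hcon
    push Not at hcon
    apply hA0.2.1
    rw [le_centralizer_iff, hWW]
    refine sup_le ?_ (iSup_le fun i => le_centralizer_iff.1 (hcon i))
    exact fun x hx => mem_centralizer_iff.2 fun a ha => h.tk.cX (f.le A0 hA0.1 ha) hx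
  -- conjugate into `m`
  obtain ⟨s, hs, hsW⟩ := h.tk.tr l m
  have hsN : s ∈ normalizer (WW : Set G) := h.S_norm hs
  have hA0' : cj s A0 ∈ AA := fS A0 hA0.1 s hs hsN
  have hD := DM_conj hA0 hsN hA0'
  refine ⟨_, AA, cj s A0, h, rfl, f, hbl m, hD, fun hc => hl ?_⟩
  have k' := (h.bk l).cj h.tk hs hsW
  have h1 := (uni' h.tk (h.bk m) k').1
  rw [comm_cjj] at h1
  have h2 : cj s A0 ≤ centralizer ((cj s ⁅N l, K l⁆ : Subgroup G) : Set G) := by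
    rw [le_centralizer_iff]
    refine h1.trans (sup_le (le_centralizer_iff.1 hc) ?_)
    exact fun x hx => mem_centralizer_iff.2 fun a ha => h.tk.cX (f.le _ hA0' ha) hx
  rw [← cj_centralizer] at h2
  exact Cfsg.Agent.Omega.NO3S.ThmB.cj_le_cj_iff.1 h2

/-- **(theta)** -/
theorem theta [Finite G] [Finite ι] (m : ι) : ∃ R ≤ K m, K m ≤ normalizer (R : Set G) ∧ K m ≤ R ⊔ B0 ∧
    ∀ l, l ≠ m → R ≤ centralizer ((⁅N l, K l⁆ : Subgroup G) : Set G) := by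
  obtain ⟨H, AA, D0, t⟩ := h.exists_TD1 m
  exact ⟨TD1.Rg K m D0, t.Rg_le, TD1.Rg_norm, t.K_le, fun l hl => t.cen_F hl⟩

end TD

end Cfsg.Agent.Omega.OM.Lev.Low.TorusK

end

section


/-!
# TORUS, `k ≥ 4`: (LOC) of helper607 #23961

For a block `K` (`BK`) and `F = [N, K]`: `X ∏ F^s` (`s ∈ S`) is abelian and normalised by `S` and by `K`
(hence by all `K^s`).

* `comm_all` : `[F, F'] = 1` for any two blocks;
* `pair_norm` : two blocks over different lines (helper12's pair lemma);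
* `WW S X F` := `X ⊔ ⨆ s : S, F^s`; `WW_comm`, `S_norm`, `K_norm`.
-/

set_option autoImplicit false
set_option linter.unusedSectionVars false

namespace Cfsg.Agent.Omega.OM.Lev.Low.TorusK

open Subgroup Cfsg Cfsg.Agent.ZN Cfsg.Agent.ZN.ChoiceBase
open Cfsg.Agent.Omega.SQ1.Bau (mem_sup_comm card_sup_comm elem_comm elem_sq)
open Cfsg.Agent.Omega.NO3S.Level.Claim (Fm Bl cB mem_cB cB_le)
open Cfsg.Agent.Omega.OM.Lev.Uni (FrL)
open Cfsg.Agent.Omega.OM.Lev.Low.TorusK.PBC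
open scoped commutatorElement

universe u

variable {G : Type u} [Group G] {ι : Type} {S B Q V Xn ZJ B0 X M0 Y0 : Subgroup G} {L W Z C A : ι → Subgroup G} {z : G}
  {l m : ι} {K N N1 N0 K' N' N1' N0' : Subgroup G}

namespace Loc

/-- `[F, F'] = 1` -/
theorem comm_all [Finite G] (h : TK S B Q V Xn ZJ B0 X M0 Y0 L W Z C A z) (k : BK B B0 X M0 Y0 W l K N N1 N0)
    (k' : BK B B0 X M0 Y0 W m K' N' N1' N0') {a b : G} (ha : a ∈ (⁅N, K⁆ : Subgroup G))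
    (hb : b ∈ (⁅N', K'⁆ : Subgroup G)) : a * b = b * a := by
  by_cases e : l = m
  · subst e
    obtain ⟨U, hU, -, -, hall⟩ := h.exists_U1 l
    exact elem_comm hU a ((hall K N N1 N0 k).1 ha) b ((hall K' N' N1' N0' k').1 hb)
  · obtain ⟨U, hU, -, -, h1, h2⟩ := h.exists_U2 e
    exact elem_comm hU a ((h1 K N N1 N0 k).1 ha) b ((h2 K' N' N1' N0' k').1 hb)

/-- the smallest group over `D`, `D'` normalised by `K`, `K'` inside `U` -/
theorem exists_min {U D D' : Subgroup G} (hD : D ≤ U) (hD' : D' ≤ U) (hK : K ≤ normalizer (U : Set G))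
    (hK' : K' ≤ normalizer (U : Set G)) : ∃ U' ≤ U, D ≤ U' ∧ D' ≤ U' ∧ K ≤ normalizer (U' : Set G) ∧
      K' ≤ normalizer (U' : Set G) ∧ ∀ R : Subgroup G, D ≤ R → D' ≤ R → K ≤ normalizer (R : Set G) →
        K' ≤ normalizer (R : Set G) → U' ≤ R := by
  have hn : ∀ {T : Subgroup G} {𝒮 : Set (Subgroup G)}, (∀ R ∈ 𝒮, T ≤ normalizer (R : Set G)) →
      T ≤ normalizer ((sInf 𝒮 : Subgroup G) : Set G) := by
    intro T 𝒮 hT g hg
    rw [mem_normalizer_iff]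
    intro x
    rw [Subgroup.mem_sInf, Subgroup.mem_sInf]
    exact ⟨fun h1 R hR => (mem_normalizer_iff.1 (hT R hR hg) x).1 (h1 R hR),
      fun h1 R hR => (mem_normalizer_iff.1 (hT R hR hg) x).2 (h1 R hR)⟩
  refine ⟨sInf {R | D ≤ R ∧ D' ≤ R ∧ K ≤ normalizer (R : Set G) ∧ K' ≤ normalizer (R : Set G)},
    sInf_le ⟨hD, hD', hK, hK'⟩, le_sInf fun R hR => hR.1, le_sInf fun R hR => hR.2.1, hn fun R hR => hR.2.2.1,
    hn fun R hR => hR.2.2.2, fun R h1 h2 h3 h4 => sInf_le ⟨h1, h2, h3, h4⟩⟩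

/-- **Two blocks over different lines.** -/
theorem pair_norm [Finite G] (h : TK S B Q V Xn ZJ B0 X M0 Y0 L W Z C A z) (hlm : l ≠ m)
    (k : BK B B0 X M0 Y0 W l K N N1 N0) (k' : BK B B0 X M0 Y0 W m K' N' N1' N0') (hX : ⁅N', K'⁆ ⊓ X ≤ W m) {g v : G}
    (hg : g ∈ K) (hv : v ∈ (⁅N', K'⁆ : Subgroup G)) : g * v * g⁻¹ ∈ ⁅N, K⁆ ⊔ ⁅N', K'⁆ ⊔ X := by
  obtain ⟨U0, hU0, hUB0, hUY0, h1, h2⟩ := h.exists_U2 hlm
  obtain ⟨h3, h4⟩ := h1 K N N1 N0 k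
  obtain ⟨h5, h6⟩ := h2 K' N' N1' N0' k'
  obtain ⟨U, hUU, hF, hF', hKU, hKU', hmin⟩ := exists_min h3 h5 h4 h6
  have hU : IsElementaryAbelian 2 U := Cfsg.Agent.PLocal.ThompsonJ.isElementaryAbelian_mono hU0 hUU
  obtain ⟨AA, f, -⟩ := h.fml U (normalizer (U : Set G) ⊓ M0) hU (hUU.trans hUB0) (hUU.trans hUY0) inf_le_left
    inf_le_right
  have b1 := k.bl h f hF hKU (le_inf hKU k.KM)
  have b2 := k'.bl h f hF' hKU' (le_inf hKU' k'.KM)
  have hp : PairD S U (normalizer (U : Set G) ⊓ M0) B0 (U ⊓ X) AA K ⁅N, K⁆ K' ⁅N', K'⁆ :=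
    ⟨f, b1, b2, fun x hx w hw => k.cW m (Ne.symm hlm) w (hX ⟨hw.1, hw.2.2⟩) x hx,
      fun R _ r1 r2 r3 r4 => hmin R r1 r2 r3 r4⟩
  have h7 := hp.main
  have h8 := (mem_normalizer_iff.1 (h7 hg) v).1 (mem_sup_left (mem_sup_right hv))
  have h9 : ⁅N, K⁆ ⊔ ⁅N', K'⁆ ⊔ (U ⊓ X) ≤ ⁅N, K⁆ ⊔ ⁅N', K'⁆ ⊔ X := sup_le_sup_left inf_le_right _
  exact h9 h8

/-- `X ∏ F^s` -/
def WW (S X F : Subgroup G) : Subgroup G := X ⊔ ⨆ s : S, cj (s : G) F

theorem X_le (S X F : Subgroup G) : X ≤ WW S X F := le_sup_left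

theorem cj_le {F : Subgroup G} {s : G} (hs : s ∈ S) : cj s F ≤ WW S X F :=
  (le_iSup (fun s : S => cj (s : G) F) ⟨s, hs⟩).trans le_sup_right

theorem F_le (S X F : Subgroup G) : F ≤ WW S X F := by
  have h1 := cj_le (X := X) (F := F) (one_mem S)
  rwa [cj_one] at h1

theorem WW_le {F T : Subgroup G} (hX : X ≤ T) (hF : ∀ s ∈ S, cj s F ≤ T) : WW S X F ≤ T :=
  sup_le hX (iSup_le fun s => hF s s.2)

/-- `S` normalises `X ∏ F^s` -/
theorem S_norm {F : Subgroup G} (hX : S ≤ normalizer (X : Set G)) : S ≤ normalizer ((WW S X F : Subgroup G) : Set G) := by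
  have key : ∀ s ∈ S, cj s (WW S X F) ≤ WW S X F := by
    intro s hs
    rw [cj_le_iff]
    refine WW_le ?_ fun t ht => ?_
    · rw [← cj_le_iff, cj_eq_of_mem_normalizer (hX hs)]
      exact X_le S X F
    · rw [← cj_le_iff, cj_cj]
      exact cj_le (mul_mem hs ht)
  intro s hs
  rw [mem_normalizer_iff_cj]
  refine le_antisymm (key s hs) ?_
  have h1 := cj_mono s (key s⁻¹ (inv_mem hs))
  rwa [cj_cj, mul_inv_cancel, cj_one] at h1

theorem cj_comm (s : G) (N K : Subgroup G) : cj s ⁅N, K⁆ = ⁅cj s N, cj s K⁆ := map_commutator _ _ _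

/-- `X ∏ F^s` is abelian -/
theorem WW_comm [Finite G] (h : TK S B Q V Xn ZJ B0 X M0 Y0 L W Z C A z) (k : BK B B0 X M0 Y0 W l K N N1 N0) {a b : G}
    (ha : a ∈ WW S X ⁅N, K⁆) (hb : b ∈ WW S X ⁅N, K⁆) : a * b = b * a := by
  have hFX : ∀ s ∈ S, ∀ v ∈ cj s ⁅N, K⁆, ∀ x ∈ X, v * x = x * v := by
    intro s hs v hv x hx
    obtain ⟨j, hj, -, -⟩ := h.perm s hs l
    have k1 := k.cj h hs hj
    rw [cj_comm] at hv
    exact h.cX (k1.VB0 hv) hx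
  have hFF : ∀ s ∈ S, ∀ t ∈ S, ∀ v ∈ cj s ⁅N, K⁆, ∀ w ∈ cj t ⁅N, K⁆, v * w = w * v := by
    intro s hs t ht v hv w hw
    obtain ⟨j, hj, -, -⟩ := h.perm s hs l
    obtain ⟨j', hj', -, -⟩ := h.perm t ht l
    rw [cj_comm] at hv hw
    exact comm_all h (k.cj h hs hj) (k.cj h ht hj') hv hw
  have key : ∀ x, (∀ y ∈ X, y * x = x * y) → (∀ s ∈ S, ∀ y ∈ cj s ⁅N, K⁆, y * x = x * y) →
      ∀ y ∈ WW S X ⁅N, K⁆, y * x = x * y := by
    intro x h1 h2 y hy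
    have h3 : WW S X ⁅N, K⁆ ≤ centralizer ({x} : Set G) :=
      WW_le (fun y hy => mem_centralizer_singleton_iff.2 (h1 y hy))
        fun s hs y hy => mem_centralizer_singleton_iff.2 (h2 s hs y hy)
    exact mem_centralizer_singleton_iff.1 (h3 hy)
  refine key b (fun x hx => (key x ?_ ?_ b hb).symm) (fun s hs x hx => (key x ?_ ?_ b hb).symm) a ha
  · exact fun y hy => h.Xc hy hx
  · exact fun s hs y hy => hFX s hs y hy x hx
  · exact fun y hy => (hFX s hs x hx y hy).symm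
  · exact fun t ht y hy => hFF t ht s hs y hy x hx

theorem WW_le_B0 [Finite G] (h : TK S B Q V Xn ZJ B0 X M0 Y0 L W Z C A z) (k : BK B B0 X M0 Y0 W l K N N1 N0) :
    WW S X ⁅N, K⁆ ≤ B0 := by
  refine WW_le h.XB0 fun s hs => ?_
  obtain ⟨j, hj, -, -⟩ := h.perm s hs l
  rw [cj_comm]
  exact (k.cj h hs hj).VB0

/-- **(LOC)** : `K` normalises `X ∏ F^s`. -/
theorem K_norm [Finite G] (h : TK S B Q V Xn ZJ B0 X M0 Y0 L W Z C A z) (k : BK B B0 X M0 Y0 W l K N N1 N0)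
    (hX : ∀ m K' N' N1' N0', BK B B0 X M0 Y0 W m K' N' N1' N0' → ⁅N', K'⁆ ⊓ X ≤ W m) :
    K ≤ normalizer ((WW S X ⁅N, K⁆ : Subgroup G) : Set G) := by
  have key : ∀ g ∈ K, cj g (WW S X ⁅N, K⁆) ≤ WW S X ⁅N, K⁆ := by
    intro g hg
    rw [cj_le_iff]
    have hXg : ∀ x ∈ X, g * x * g⁻¹ ∈ WW S X ⁅N, K⁆ := by
      intro x hx
      have h1 := mul_mem (F_le S X _ (k.act h hg hx)) (X_le S X ⁅N, K⁆ hx)
      rwa [inv_mul_cancel_right] at h1
    have hFg : ∀ v ∈ (⁅N, K⁆ : Subgroup G), g * v * g⁻¹ ∈ WW S X ⁅N, K⁆ := fun v hv =>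
      F_le S X _ ((mem_normalizer_iff.1 (k.pb.LV hg) v).1 hv)
    have hcj : ∀ y : G, y ∈ cj g⁻¹ (WW S X ⁅N, K⁆) ↔ g * y * g⁻¹ ∈ WW S X ⁅N, K⁆ := fun y => by
      rw [mem_cj', inv_inv]
    refine WW_le (fun x hx => (hcj x).2 (hXg x hx)) fun s hs v hv => (hcj v).2 ?_
    obtain ⟨j, hj, -, -⟩ := h.perm s hs l
    have k1 := k.cj h hs hj
    by_cases e : l = j
    · subst e
      have h1 := (uni' h k k1).1
      rw [← cj_comm] at h1
      obtain ⟨a, ha, x, hx, rfl⟩ := mem_sup_comm (fun a ha b hb => h.cX (k.VB0 ha) hb) (h1 hv)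
      have e1 : g * (a * x) * g⁻¹ = (g * a * g⁻¹) * (g * x * g⁻¹) := by group
      rw [e1]
      exact mul_mem (hFg a ha) (hXg x hx)
    · rw [cj_comm] at hv
      have h1 := pair_norm h e k k1 (hX _ _ _ _ _ k1) hg hv
      rw [← cj_comm] at h1
      have h2 : ⁅N, K⁆ ⊔ cj s ⁅N, K⁆ ⊔ X ≤ WW S X ⁅N, K⁆ := sup_le (sup_le (F_le S X _) (cj_le hs)) (X_le S X _)
      exact h2 h1
  intro g hg
  rw [mem_normalizer_iff_cj]
  refine le_antisymm (key g hg) ?_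
  have h1 := cj_mono g (key g⁻¹ (inv_mem hg))
  rwa [cj_cj, mul_inv_cancel, cj_one] at h1

/-- `⟨K, S⟩` normalises `X ∏ F^s` -/
theorem KS_norm [Finite G] (h : TK S B Q V Xn ZJ B0 X M0 Y0 L W Z C A z) (k : BK B B0 X M0 Y0 W l K N N1 N0)
    (hX : ∀ m K' N' N1' N0', BK B B0 X M0 Y0 W m K' N' N1' N0' → ⁅N', K'⁆ ⊓ X ≤ W m) :
    K ⊔ S ≤ normalizer ((WW S X ⁅N, K⁆ : Subgroup G) : Set G) :=
  sup_le (K_norm h k hX) (S_norm h.SX)

/-- `⟨K, S⟩` is local. -/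
theorem local_KS [Finite G] (h : TK S B Q V Xn ZJ B0 X M0 Y0 L W Z C A z) (k : BK B B0 X M0 Y0 W l K N N1 N0)
    (hX : ∀ m K' N' N1' N0', BK B B0 X M0 Y0 W m K' N' N1' N0' → ⁅N', K'⁆ ⊓ X ≤ W m) :
    ∃ U : Subgroup G, U ≠ ⊥ ∧ IsPGroup 2 U ∧ K ⊔ S ≤ normalizer (U : Set G) := by
  refine ⟨WW S X ⁅N, K⁆, fun e => ?_, h.two.to_le ((WW_le_B0 h k).trans (h.B0B.trans h.BS)), KS_norm h k hX⟩
  obtain ⟨x, hx, hx1⟩ := h.exists_Z l
  have h1 : x ∈ WW S X ⁅N, K⁆ := X_le S X _ (h.ZX l hx)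
  rw [e, mem_bot] at h1
  exact hx1 h1

end Loc

end Cfsg.Agent.Omega.OM.Lev.Low.TorusK

end

end

-- merged: Cfsg.Agent.Mrg.Omega.OM.Lev.Low.TorusK.Inst
section

section


/-!
# TORUS, `k ≥ 3`: the instances of `TK` and `BK` (helper607's frame) from `Core.Blk`

* `stM`, `stY` : the groups `M₀`, `Y₀` of the stage;
* `fml_of` : the family at the stage;
* `Loc` : the four local fields of `TK` (helper548);
* `tk_of`, `bk_of`.
-/

set_option autoImplicit false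
set_option linter.unusedSectionVars false

namespace Cfsg.Agent.Omega.OM.Lev.Low.TorusK

open Subgroup Cfsg Cfsg.Agent.ZN.ChoiceBase Cfsg.Agent.ZN.ChoiceSit
open Cfsg.Agent.ZN (jj zj bau zc zl o2)
open Cfsg.Agent.Omega.SQ1.Bau (elem_comm elem_sq)
open Cfsg.Agent.Omega.NO3S.Level.Claim (Fm Bl)
open Cfsg.Agent.Omega.OM.SwapL (Ln ZL BL)
open Cfsg.Agent.Omega.NO3S.Level (lev lev_mono lev_isLev Lev lev_le BO nxt)
open Cfsg.Agent.Omega.NO3S.EThree.Frame (Bg)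
open Cfsg.Agent.Omega.OM.Lev.Low.SetS (S_norm_lev S_norm_zc S_norm_BL zj_eq BL_zero)
open Cfsg.Agent.Omega.OM.Lev.Low.BlOf (fm_neg fm_lev famA famA_cj famA_le)
open Cfsg.Agent.Omega.FrameFF (cv)
open Cfsg.Agent.Omega.OM.Lev.Low.Core (Blk)
open Cfsg.Agent.Omega.OM.Lev.Low.Line (Full full_of_conj S_cent exists_full)

universe u

variable {G : Type u} [Group G]

/-- the group `M₀` of the stage -/
noncomputable def stM (S : Subgroup G) : ℕ → Subgroup G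
  | 0 => ⊤
  | n + 1 => normalizer (lev S n : Set G)

/-- the group `Y₀` of the stage -/
noncomputable def stY (S : Subgroup G) : ℕ → Subgroup G
  | 0 => ⊤
  | n + 1 => zc (lev S n)

variable [Finite G]

/-- **The family at the stage.** -/
theorem fml_of (S : Sylow 2 G) (j : ℕ) : Fml (S : Subgroup G) (LevB.BL (S : Subgroup G) j)
    (zc (lev (S : Subgroup G) j)) (stM (S : Subgroup G) j) (stY (S : Subgroup G) j) := by
  intro U H hU hUB hUY hHU hHM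
  have hUS : U ≤ (S : Subgroup G) := hUB.trans inf_le_left
  cases j with
  | zero =>
    have hUb : U ≤ bau (S : Subgroup G) := by rw [← BL_zero]; exact hUB
    have fm := fm_neg (S := (S : Subgroup G)) hU hUb hHU
    rw [← BL_zero, ← zj_eq] at fm
    refine ⟨_, fm, fun A hA g hg hgU => famA_cj hA hgU ?_ hUS⟩
    rintro _ ⟨a, ha, rfl⟩
    exact mul_mem (mul_mem hg (ZN.ChoiceBase.jj_le _ (famA_le hA ha))) (inv_mem hg)
  | succ m =>
    have fm : Fm (S : Subgroup G) U H (LevB.BL (S : Subgroup G) (m + 1))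
        (U ⊓ zc (lev (S : Subgroup G) (m + 1))) (BO (S : Subgroup G) (lev (S : Subgroup G) m)) :=
      fm_lev (lev_isLev (S : Subgroup G) m) hUY hHM
    refine ⟨_, fm, fun A hA g hg _ => BO.conj hA (S_norm_lev S m hg) ?_⟩
    rintro _ ⟨a, ha, rfl⟩
    exact mul_mem (mul_mem hg (hA.1 ha)) (inv_mem hg)

/-- The local fields of `TK` (helper548). -/
structure Loc {ι : Type} (S B ZJ B0 X : Subgroup G) (Z : ι → Subgroup G) (z : G) : Prop where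
  syl : ∀ l, ∀ T : Subgroup G, IsPGroup 2 T → B ≤ T → (∀ p, p ≠ l → T ≤ centralizer (Z p : Set G)) → T ≤ B
  loc1 : ∀ l, ∃ E : Subgroup G, IsElementaryAbelian 2 E ∧ E ≤ B ∧ ZJ ≤ E ∧
    ∀ g, (∀ p, p ≠ l → ∀ x ∈ Z p, g * x = x * g) → g ∈ normalizer (E : Set G)
  loc2 : ∀ l m, l ≠ m → ∃ E : Subgroup G, IsElementaryAbelian 2 E ∧ (∀ e ∈ E, (∀ x ∈ X, e * x = x * e) → e ∈ B0) ∧
    (∀ x ∈ Z l, ∀ y ∈ Z m, x ≠ 1 → y ≠ 1 → x * y ∈ E) ∧
    ∀ g, (∀ p, p ≠ l → p ≠ m → ∀ x ∈ Z p, g * x = x * g) → g ∈ normalizer (E : Set G)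
  fact : ∀ H : Subgroup G, S ≤ H → (∃ U : Subgroup G, U ≠ ⊥ ∧ IsPGroup 2 U ∧ H ≤ normalizer (U : Set G)) →
    H ≤ (H ⊓ normalizer (X : Set G)) ⊔ (H ⊓ centralizer ({z} : Set G))

section tk

variable {ι : Type} [Finite ι] {S : Sylow 2 G} {P : Subgroup G} {n : ℕ} {L W Z C A : ι → Subgroup G}

/-- **The instance of `TK`.** -/
theorem tk_of (hln : Ln S P n L W Z C A 2)
    (hbg : Bg S P (BL (S : Subgroup G) n) (ZL (S : Subgroup G) n) L W Z C 2) {j : ℕ} (hj : j ≤ n) {z : G}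
    (hz : z ∈ ZL (S : Subgroup G) n) (hzC : ∀ i, z ∉ C i)
    (hloc : Loc (S : Subgroup G) (BL (S : Subgroup G) n) (ZL (S : Subgroup G) n) (LevB.BL (S : Subgroup G) j)
      (zc (lev (S : Subgroup G) j)) Z z) :
    TK (S : Subgroup G) (BL (S : Subgroup G) n) (o2 P) (zl (S : Subgroup G) P) (zc (lev (S : Subgroup G) n))
      (ZL (S : Subgroup G) n) (LevB.BL (S : Subgroup G) j) (zc (lev (S : Subgroup G) j)) (stM (S : Subgroup G) j)
      (stY (S : Subgroup G) j) L W Z C A z where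
  fr := hln.fr
  fml := fml_of S j
  two := S.isPGroup'
  BS := hbg.BS
  B0B := BL_mono (S : Subgroup G) (by omega : j ≤ n + 1)
  SB := hbg.S_norm_B
  SB0 := S_norm_BL S j
  SX := S_norm_zc S j
  zB := LevB.zc_B S j
  VX := hln.fr.VX.trans ((lev_isLev (S : Subgroup G) j).zc_le_zc (lev_mono _ hj) (lev_le _ n))
  XY := by
    cases j with
    | zero => exact le_top
    | succ m => exact (lev_isLev (S : Subgroup G) m).zc_le_zc (lev_mono _ (Nat.le_succ m)) (lev_le _ _)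
  mX := fun s hs hc => mem_inf.2 ⟨hs, mem_centralizer_iff.2 fun x hx => (hc x hx).symm⟩
  cQ := fun x hx hc => by
    have h1 := qv hln hbg.bau_two le_rfl hj
    exact (h1.mem x).2 ⟨hx, hc⟩
  SM := by
    cases j with
    | zero => exact le_top
    | succ m => exact S_norm_lev S m
  MY := by
    cases j with
    | zero =>
      show (⊤ : Subgroup G) ≤ normalizer (((⊤ : Subgroup G) : Subgroup G) : Set G)
      intro x _
      rw [mem_normalizer_iff]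
      exact fun y => ⟨fun _ => mem_top _, fun _ => mem_top _⟩
    | succ m => exact NO3S.Level.normalizer_le_zc _
  perm := fun s hs i => by
    obtain ⟨σ, hσ⟩ := hbg.perm_S hs
    exact ⟨σ i, hσ i⟩
  tr := hbg.trans
  wt := fun g z hz hg hf => full_of_conj hln hbg hz hg hf
  syl := hloc.syl
  loc1 := hloc.loc1
  loc2 := hloc.loc2
  zJ := hz
  zS := fun s hs => S_cent hln hbg hz hzC hs
  zC := hzC
  fact := hloc.fact

end tk

section bk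

variable {ι : Type} {S : Sylow 2 G} {P : Subgroup G} {n : ℕ} {L W Z C A : ι → Subgroup G} {R : Subgroup G}
  {j : ℕ} {K N₁ c : Subgroup G} {τ : G} {l : ι}

/-- `R` normalises the levels `< j` -/
theorem R_norm (h : Blk S P n L W Z C A R j K N₁ c τ l) {m : ℕ} (hm : m < j) :
    R ≤ normalizer (lev (S : Subgroup G) m : Set G) :=
  (lev_isLev (S : Subgroup G) m).le_norm_of_o2 (h.low m hm) ((o2_le_syl h.syl).trans h.bg.BS)

/-- `⟨Ω₁Z(B)^R⟩ ≤ Ω₁Z(lev S m)`, `m < j` -/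
theorem zl_le_lev (h : Blk S P n L W Z C A R j K N₁ c τ l) {m : ℕ} (hm : m < j) :
    zl (BL (S : Subgroup G) n) R ≤ zc (lev (S : Subgroup G) m) := by
  have h1 : zc (BL (S : Subgroup G) n) ≤ zc (lev (S : Subgroup G) m) := by
    have h2 : zc (BL (S : Subgroup G) n) = ZL (S : Subgroup G) n := h.ln.fr.zcB
    rw [h2]
    exact (lev_isLev (S : Subgroup G) m).zc_le_zc (lev_mono _ (by have := h.jn; omega)) (lev_le _ _)
  refine iSup_le fun g => ?_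
  have h2 := (R_norm h hm).trans (NO3S.Level.normalizer_le_zc _)
  have h3 := cj_mono (g : G) h1
  rwa [cj_eq_of_mem_normalizer (h2 g.2)] at h3

/-- **The instance of `BK`.** -/
theorem bk_of (h : Blk S P n L W Z C A R j K N₁ c τ l) :
    BK (BL (S : Subgroup G) n) (LevB.BL (S : Subgroup G) j) (zc (lev (S : Subgroup G) j)) (stM (S : Subgroup G) j)
      (stY (S : Subgroup G) j) W l K (zl (BL (S : Subgroup G) n) R) N₁ (cv (BL (S : Subgroup G) n) R) where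
  pb := h.pb
  NY := by
    cases j with
    | zero => exact le_top
    | succ m => exact zl_le_lev h (Nat.lt_succ_self m)
  KM := by
    cases j with
    | zero => exact le_top
    | succ m => exact h.KR.trans (R_norm h (Nat.lt_succ_self m))
  WN := h.cW ▸ h.cN1
  WN0 := h.cW ▸ h.cD
  cW := fun p hp w hw k hk => mem_centralizer_iff.1 (h.WK p hp hw) k hk
  BX := fun b hb => mem_normalizer_iff_cj.2 (h.fix b hb).1
  tor := by
    refine ⟨τ, h.τK, h.τB0, fun w hw => ?_, fun w hw => h.τ1 w (h.cW ▸ hw)⟩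
    rw [← h.cW] at hw ⊢
    have h1 : τ * w * τ⁻¹ ∈ cj τ c := ⟨w, hw, rfl⟩
    rwa [h.τc] at h1

end bk

end Cfsg.Agent.Omega.OM.Lev.Low.TorusK

end

section


/-!
# `NoLowK`: no minimal parabolic of smaller stage over `B` moves `Ω₁(Z(B))`, `q = 2`, `k ≥ 3`

`noLowK_of` : `NoLowK K` from the local fields (`LocOf`) and the torus theorem (`TorusOf`).
-/

set_option autoImplicit false
set_option linter.unusedSectionVars false

namespace Cfsg.Agent.Omega.OM.Lev.Low.PlugE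

open Subgroup Cfsg Cfsg.Agent.ZN.ChoiceBase Cfsg.Agent.ZN.ChoiceSit
open Cfsg.Agent.ZN (jj zj bau zc zl o2)
open Cfsg.Agent.MinSimple.MinParabolic (IsMinPar)
open Cfsg.Agent.Omega.FFThm (NatKM)
open Cfsg.Agent.Omega.FrameFF (cv)
open Cfsg.Agent.Omega.Frame (Cls)
open Cfsg.Agent.Omega.OM.Lev.Uni (FrL)
open Cfsg.Agent.Omega.OM.SwapL (Ln ZL BL)
open Cfsg.Agent.Omega.NO3S.Level (lev lev_mono lev_isLev)
open Cfsg.Agent.Omega.NO3S.EThree.Frame (Bg)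
open Cfsg.Agent.Omega.MinPar (IsParS)
open Cfsg.Agent.Omega.OM.Lev.Low.TorusK (TK BK NA Loc stM stY tk_of bk_of)
open Cfsg.Agent.Omega.OM.Lev.Low.Core (Blk exists_blk)

universe u

/-- The local fields (helper548). -/
def LocOf : Prop :=
  ∀ (G : Type u) [Group G] [Finite G] (k : ℕ) (S : Sylow 2 G) (P : Subgroup G) (n : ℕ)
    (L W Z C A : Fin k → Subgroup G), 3 ≤ k → Ln S P n L W Z C A 2 →
    Bg S P (BL (S : Subgroup G) n) (ZL (S : Subgroup G) n) L W Z C 2 →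
    (∀ R, IsParS (S : Subgroup G) R → lev (S : Subgroup G) n ≤ o2 R) → ∀ j ≤ n, ∀ z ∈ ZL (S : Subgroup G) n,
      (∀ i, z ∉ C i) → Loc (S : Subgroup G) (BL (S : Subgroup G) n) (ZL (S : Subgroup G) n)
        (LevB.BL (S : Subgroup G) j) (zc (lev (S : Subgroup G) j)) Z z

/-- The torus theorem (helper607). -/
def TorusOf : Prop :=
  ∀ (G : Type u) [Group G] [Finite G] (k : ℕ) (S B Q V Xn ZJ B0 X M0 Y0 : Subgroup G)
    (L W Z C A : Fin k → Subgroup G) (z : G) (l : Fin k) (K N N1 N0 : Subgroup G), 3 ≤ k →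
    TK S B Q V Xn ZJ B0 X M0 Y0 L W Z C A z → BK B B0 X M0 Y0 W l K N N1 N0 → NA B K N → False

/-- `NA` from `Core.Blk` -/
theorem na_of {G : Type u} [Group G] [Finite G] {ι : Type} {S : Sylow 2 G} {P : Subgroup G} {n : ℕ}
    {L W Z C A : ι → Subgroup G} {R : Subgroup G} {j : ℕ} {K N₁ c : Subgroup G} {τ : G} {l : ι}
    (h : Blk S P n L W Z C A R j K N₁ c τ l) :
    NA (BL (S : Subgroup G) n) K (zl (BL (S : Subgroup G) n) R) := ⟨h.nK, h.act⟩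

theorem noLowK_of {K : Cls.{u}} (hL : LocOf.{u}) (hT : TorusOf.{u}) : EK3.UniLevK.NoLowK K := by
  intro G _ _ hG S P hyp n hall hn1 F _ _ _ k hF hk N B ZJ eqZ eqB hE L W Z C A hbg hfr R hP hTR hc hn
  by_contra hZ
  subst eqZ eqB
  have hln : Ln S P n L W Z C A 2 := by
    refine ⟨hyp.toHypN, hall P hyp.star, hfr, fun i => ?_⟩
    have : Nontrivial (Fin k) := Fin.nontrivial_iff_two_le.2 (by omega)
    exact exists_ne i
  have : Nonempty (Fin k) := ⟨⟨0, by omega⟩⟩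
  obtain ⟨j, K1, N₁, c, τ, l, hb⟩ := exists_blk hln hbg hP hTR hc hn hZ
  obtain ⟨z, hz, hzf⟩ := Line.exists_full hln.fr
  exact hT G k _ _ _ _ _ _ _ _ _ _ _ _ _ _ _ _ _ _ _ _ _ hk
    (tk_of hln hbg hb.jn hz hzf (hL G k S P n L W Z C A hk hln hbg hall j hb.jn z hz hzf)) (bk_of hb) (na_of hb)

end Cfsg.Agent.Omega.OM.Lev.Low.PlugE

end

end
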